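import Cfsg.Agent.H614.Rank

/-!
# Counting tuples of a given colour and weight

* `span_le` : an alternating function of tuples with entries on the runners of `I` takes values of colour
  `β₀` and weight `w` in a space of dimension at most `cc #I w`;
* `card_le` : the number of strictly increasing such tuples is at most `cc #I w`;
* `card_sets_le` : the same for finite sets of beads.
-/

set_option autoImplicit false
set_option linter.unusedSectionVars false

namespace Cfsg.Agent.H615.AltCount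

open Finset Cfsg.Agent.H614

variable {m : ℕ}

/-- `1, k, k (k + 1), k (k + 1) ^ 2, …`. -/
def cc (k : ℕ) : ℕ → ℕ
  | 0 => 1
  | v + 1 => k * (k + 1) ^ v

theorem sum_cc (k w : ℕ) : ∑ v ∈ range (w + 1), cc k v = (k + 1) ^ w := by
  induction w with
  | zero => simp [cc]
  | succ w ih =>
    rw [Finset.sum_range_succ, ih]
    simp only [cc]
    rw [pow_succ]; ring

section Span

variable {W : Type*} [AddCommGroup W] [Module ℂ W]

theorem span_le [DecidableEq W] {p : ℕ} (hp : 0 < p) (I : Finset ℕ) (w : ℕ) (β₀ : Fin m → ℕ) :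
    ∀ Φ : (Fin m → ℕ) → W, Alt Φ → ∃ T : Finset W, T.card ≤ cc I.card w ∧
      ∀ γ : Fin m → ℕ, (∀ j, γ j % p ∈ I) → SameCol p β₀ γ → ∑ j, γ j / p = w + npairs p γ →
        Φ γ ∈ Submodule.span ℂ (T : Set W) := by
  induction w using Nat.strong_induction_on with
  | _ w ih =>
  intro Φ hΦ
  rcases Nat.eq_zero_or_pos w with rfl | hw
  · by_cases hex : ∃ γ : Fin m → ℕ, Function.Injective γ ∧ SameCol p β₀ γ ∧
      ∑ j, γ j / p = npairs p γ
    · obtain ⟨γ₁, hinj, hc, h⟩ := hex
      refine ⟨{Φ γ₁}, by simp [cc], fun γ _ hγ hγ' => ?_⟩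
      by_cases hi : Function.Injective γ
      · obtain ⟨σ, rfl⟩ := exists_perm_of_weight_zero hp hinj hi h (by simpa using hγ') (hc.symm.trans hγ)
        rw [hΦ, ← Int.cast_smul_eq_zsmul ℂ]
        exact Submodule.smul_mem _ _ (Submodule.subset_span (by simp))
      · rw [hΦ.eq_zero_of_not_injective two_torsion_module hi]
        exact Submodule.zero_mem _
    · refine ⟨∅, by simp, fun γ _ hγ hγ' => ?_⟩
      rw [hΦ.eq_zero_of_not_injective two_torsion_module (fun hi => hex ⟨γ, hi, hγ, by simpa using hγ'⟩)]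
      exact Submodule.zero_mem _
  · have hch : ∀ r i : ℕ, ∃ T : Finset W, (r < w → T.card ≤ cc I.card (w - (r + 1))) ∧
        (r < w → ∀ γ : Fin m → ℕ, (∀ j, γ j % p ∈ I) → SameCol p β₀ γ →
          ∑ j, γ j / p = (w - (r + 1)) + npairs p γ →
          Psi Φ p i (r + 1) γ ∈ Submodule.span ℂ (T : Set W)) := by
      intro r i
      by_cases hr : r < w
      · obtain ⟨T, h1, h2⟩ := ih (w - (r + 1)) (by omega) _ (Psi_alt hΦ p i (r + 1))
        exact ⟨T, fun _ => h1, fun _ => h2⟩
      · exact ⟨∅, fun h => absurd h hr, fun h => absurd h hr⟩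
    choose T hT1 hT2 using hch
    refine ⟨(range w).biUnion fun r => I.biUnion fun i => T r i, ?_, ?_⟩
    · refine (Finset.card_biUnion_le).trans ?_
      have h1 : ∀ r ∈ range w, (I.biUnion fun i => T r i).card ≤
          I.card * cc I.card (w - (r + 1)) := by
        intro r hr
        refine (Finset.card_biUnion_le).trans ?_
        refine (Finset.sum_le_card_nsmul _ _ (cc I.card (w - (r + 1)))
          fun i _ => hT1 r i (mem_range.mp hr)).trans ?_
        simp
      refine (Finset.sum_le_sum h1).trans ?_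
      rw [← Finset.mul_sum]
      obtain ⟨v, rfl⟩ : ∃ v, w = v + 1 := ⟨w - 1, by omega⟩
      have h2 : ∑ r ∈ range (v + 1), cc I.card (v + 1 - (r + 1)) = (I.card + 1) ^ v := by
        rw [← sum_cc I.card v, ← Finset.sum_range_reflect (fun u => cc I.card u)]
        refine Finset.sum_congr rfl fun r hr => ?_
        congr 1
        omega
      rw [h2]
      exact le_of_eq rfl
    · intro γ hI hγ hw'
      have hsum := energy_Psi hΦ γ hw'
      have h3 : (w : ℂ) • Φ γ ∈
          Submodule.span ℂ (((range w).biUnion fun r => I.biUnion fun i => T r i : Finset W) : Set W) := by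
        rw [Nat.cast_smul_eq_nsmul, ← hsum]
        refine Submodule.sum_mem _ fun j _ => Submodule.sum_mem _ fun r hr => ?_
        have hr1 := mem_range.mp hr
        have hle : p * (r + 1) ≤ γ j :=
          le_trans (Nat.mul_le_mul_left _ hr1) (Nat.mul_div_le _ _)
        by_cases hrw : r < w
        · refine Submodule.span_mono ?_ (hT2 r (γ j % p) hrw (dn γ j (p * (r + 1))) ?_ ?_ ?_)
          · intro x hx
            rw [Finset.mem_coe, Finset.mem_biUnion]
            refine ⟨r, mem_range.mpr hrw, ?_⟩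
            rw [Finset.mem_biUnion]
            exact ⟨γ j % p, hI j, hx⟩
          · intro k
            rw [dn_mod (dvd_mul_right p _) γ j hle]
            exact hI k
          · exact hγ.trans (sameCol_dn (dvd_mul_right p _) γ j hle).symm
          · rw [npairs_of_mod (dn_mod (dvd_mul_right p (r + 1)) γ j hle)]
            have := sum_div_dn hp γ j hle
            omega
        · rw [(Psi_alt hΦ p (γ j % p) (r + 1)).eq_zero_of_not_injective two_torsion_module]
          · exact Submodule.zero_mem _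
          · exact not_injective_dn hp hw' j hle (by omega)
      have h4 : ((w : ℂ)⁻¹ * (w : ℂ)) • Φ γ ∈
          Submodule.span ℂ (((range w).biUnion fun r => I.biUnion fun i => T r i : Finset W) : Set W) := by
        rw [mul_smul]; exact Submodule.smul_mem _ _ h3
      rwa [inv_mul_cancel₀ (by exact_mod_cast hw.ne'), one_smul] at h4

end Span

/-! ### The free alternating function -/

open scoped Classical in
/-- The signed indicator of the sorted tuple. -/
noncomputable def frees (γ : Fin m → ℕ) : (Fin m → ℕ) →₀ ℂ :=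
  ∑ σ : Equiv.Perm (Fin m), if StrictMono (γ ∘ σ) then sg σ • Finsupp.single (γ ∘ σ) (1 : ℂ) else 0

theorem frees_alt : Alt (frees (m := m)) := by
  classical
  intro τ γ
  unfold frees
  rw [Finset.smul_sum, ← Equiv.sum_comp (Equiv.mulLeft τ) (fun σ => sg τ • (if StrictMono (γ ∘ σ) then
    sg σ • Finsupp.single (γ ∘ σ) (1 : ℂ) else 0))]
  refine Finset.sum_congr rfl fun σ _ => ?_
  have h1 : (γ ∘ ⇑τ) ∘ ⇑σ = γ ∘ ⇑(Equiv.mulLeft τ σ) := by funext i; simp
  rw [h1, smul_ite, smul_zero]
  refine if_congr Iff.rfl ?_ rfl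
  rw [smul_smul, Equiv.coe_mulLeft, sg_mul, ← mul_assoc, sg_mul_self, one_mul]

theorem frees_of_strictMono {γ : Fin m → ℕ} (hγ : StrictMono γ) : frees γ = Finsupp.single γ 1 := by
  classical
  unfold frees
  rw [Finset.sum_eq_single 1]
  · simp [hγ, sg]
  · intro σ _ hσ
    rw [if_neg]
    intro h
    apply hσ
    have h1 : StrictMono σ := by
      intro i j hij
      exact hγ.lt_iff_lt.mp (h hij)
    have h2 : (σ : Fin m → Fin m) = id := by
      have h3 := StrictMono.range_inj (f := (σ : Fin m → Fin m)) (g := id) h1 strictMono_id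
      exact h3.mp (by simp)
    ext i
    rw [h2]; simp
  · simp

/-- The number of strictly increasing tuples of a given colour and weight on the runners of `I`. -/
theorem card_le {p : ℕ} (hp : 0 < p) (I : Finset ℕ) (w : ℕ) (β₀ : Fin m → ℕ)
    (S : Finset (Fin m → ℕ)) (hS : ∀ γ ∈ S, StrictMono γ ∧ (∀ j, γ j % p ∈ I) ∧ SameCol p β₀ γ ∧
      ∑ j, γ j / p = w + npairs p γ) : S.card ≤ cc I.card w := by
  classical
  obtain ⟨T, hT, hT'⟩ := span_le hp I w β₀ frees (frees_alt (m := m))
  refine le_trans ?_ hT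
  have hli : LinearIndependent ℂ (fun γ : S => Finsupp.single (γ : Fin m → ℕ) (1 : ℂ)) := by
    have h1 := Finsupp.linearIndependent_single_one ℂ (Fin m → ℕ)
    exact h1.comp _ Subtype.val_injective
  have h1 := finrank_span_eq_card hli
  rw [Fintype.card_coe] at h1
  rw [← h1]
  refine le_trans (Submodule.finrank_mono (t := Submodule.span ℂ (T : Set ((Fin m → ℕ) →₀ ℂ))) ?_)
    (finrank_span_finset_le_card T)
  rw [Submodule.span_le]
  rintro _ ⟨γ, rfl⟩
  obtain ⟨h2, h3, h4, h5⟩ := hS γ γ.2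
  have h6 := hT' γ h3 h4 h5
  rw [frees_of_strictMono h2] at h6
  exact h6

/-! ### Inversions of finite sets of beads -/

/-- The number of pairs (bead, empty place below it on the same runner) on the runners of `I`. -/
def inv (N p : ℕ) (I S : Finset ℕ) : ℕ :=
  #{x ∈ range N ×ˢ range N | x.1 ∈ S ∧ x.2 ∉ S ∧ x.2 < x.1 ∧ x.2 % p = x.1 % p ∧ x.1 % p ∈ I}

/-- The number of naturals below `b` congruent to `b`. -/
theorem card_below {p : ℕ} (hp : 0 < p) (b : ℕ) :
    #{c ∈ range b | c % p = b % p} = b / p := by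
  conv_rhs => rw [← Finset.card_range (b / p)]
  refine Finset.card_bij' (i := fun c _ => c / p) (j := fun t _ => p * t + b % p) ?_ ?_ ?_ ?_
  · intro c hc
    rw [Finset.mem_filter, Finset.mem_range] at hc
    rw [Finset.mem_range]
    have h1 := Nat.div_add_mod c p
    have h2 := Nat.div_add_mod b p
    rw [hc.2] at h1
    by_contra hcon
    push Not at hcon
    have := Nat.mul_le_mul_left p hcon
    omega
  · intro t ht
    rw [Finset.mem_range] at ht
    rw [Finset.mem_filter, Finset.mem_range]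
    refine ⟨?_, by rw [Nat.mul_add_mod, Nat.mod_mod]⟩
    have h2 := Nat.div_add_mod b p
    have h3 : p * (t + 1) ≤ p * (b / p) := Nat.mul_le_mul_left _ ht
    rw [Nat.mul_succ] at h3
    omega
  · intro c hc
    rw [Finset.mem_filter] at hc
    have := Nat.div_add_mod c p
    rw [hc.2] at this
    exact this
  · intro t ht
    rw [Nat.mul_add_div hp, Nat.div_eq_of_lt (Nat.mod_lt _ hp), add_zero]

/-- The weight of a tuple as a number of inversions. -/
theorem sum_div_eq {N p : ℕ} (hp : 0 < p) {k : ℕ} {γ : Fin k → ℕ} (hinj : Function.Injective γ)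
    (hlt : ∀ j, γ j < N) {S I : Finset ℕ} (hγ : ∀ b, b ∈ Set.range γ ↔ b ∈ S ∧ b % p ∈ I) :
    ∑ j, γ j / p = inv N p I S + npairs p γ := by
  have h1 : ∀ j, γ j / p = #{c ∈ range N | c ∉ S ∧ c < γ j ∧ c % p = γ j % p} + low p γ j := by
    intro j
    rw [← card_below hp (γ j), ← Finset.card_filter_add_card_filter_not (p := fun c => c ∉ S)
      (s := {c ∈ range (γ j) | c % p = γ j % p})]
    congr 1
    · congr 1
      ext c
      simp only [Finset.mem_filter, Finset.mem_range]
      have := hlt j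
      constructor
      · rintro ⟨⟨h1, h2⟩, h3⟩
        exact ⟨by omega, h3, h1, h2⟩
      · rintro ⟨_, h3, h1, h2⟩
        exact ⟨⟨h1, h2⟩, h3⟩
    · unfold low
      rw [← Finset.card_image_of_injective _ hinj]
      congr 1
      ext c
      simp only [Finset.mem_filter, Finset.mem_range, Finset.mem_image, Finset.mem_univ, true_and,
        not_not]
      have hj := (hγ (γ j)).mp ⟨j, rfl⟩
      constructor
      · rintro ⟨⟨h1, h2⟩, h3⟩
        obtain ⟨l, rfl⟩ := (hγ c).mpr ⟨h3, by rw [h2]; exact hj.2⟩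
        exact ⟨l, ⟨h2, h1⟩, rfl⟩
      · rintro ⟨l, ⟨h2, h1⟩, rfl⟩
        exact ⟨⟨h1, h2⟩, ((hγ (γ l)).mp ⟨l, rfl⟩).1⟩
  rw [Finset.sum_congr rfl fun j _ => h1 j, Finset.sum_add_distrib, sum_low p hinj]
  congr 1
  unfold inv
  rw [Finset.card_eq_sum_card_fiberwise (f := fun x : ℕ × ℕ => x.1)
    (t := univ.image γ)]
  · rw [Finset.sum_image (fun a _ b _ h => hinj h)]
    refine Finset.sum_congr rfl fun j _ => ?_
    refine Finset.card_bij' (i := fun c _ => (γ j, c)) (j := fun x _ => x.2) ?_ ?_ ?_ ?_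
    · intro c hc
      simp only [Finset.mem_filter, Finset.mem_range, Finset.mem_product] at hc ⊢
      have hj := (hγ (γ j)).mp ⟨j, rfl⟩
      exact ⟨⟨⟨hlt j, hc.1⟩, hj.1, hc.2.1, hc.2.2.1, hc.2.2.2, hj.2⟩, trivial⟩
    · intro x hx
      simp only [Finset.mem_filter, Finset.mem_range, Finset.mem_product] at hx ⊢
      obtain ⟨⟨⟨h1, h2⟩, h3, h4, h5, h6, h7⟩, h8⟩ := hx
      rw [h8] at h5 h6
      exact ⟨h2, h4, h5, h6⟩
    · intro c _; rfl
    · intro x hx
      rw [Finset.mem_filter] at hx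
      exact Prod.ext hx.2.symm rfl
  · intro x hx
    simp only [Finset.coe_filter, Set.mem_ofPred_eq, Finset.mem_product, Finset.mem_range] at hx
    obtain ⟨_, h3, h4, h5, h6, h7⟩ := hx
    obtain ⟨j, hj⟩ := (hγ x.1).mpr ⟨h3, h7⟩
    rw [Finset.mem_coe, Finset.mem_image]
    exact ⟨j, mem_univ j, hj⟩

theorem inv_union {N p : ℕ} {I J : Finset ℕ} (h : Disjoint I J) (S : Finset ℕ) :
    inv N p (I ∪ J) S = inv N p I S + inv N p J S := by
  unfold inv
  rw [← Finset.card_union_of_disjoint]
  · congr 1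
    ext x
    simp only [Finset.mem_filter, Finset.mem_union]
    tauto
  · rw [Finset.disjoint_left]
    intro x hx hx'
    rw [Finset.mem_filter] at hx hx'
    exact Finset.disjoint_left.mp h hx.2.2.2.2.2 hx'.2.2.2.2.2

/-- Inversions only see the beads on the runners. -/
theorem inv_filter (N p : ℕ) (I S : Finset ℕ) :
    inv N p I (S.filter (fun b => b % p ∈ I)) = inv N p I S := by
  unfold inv
  congr 1
  ext x
  simp only [Finset.mem_filter]
  constructor
  · rintro ⟨h1, ⟨h2, h3⟩, h4, h5, h6, h7⟩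
    exact ⟨h1, h2, fun h => h4 ⟨h, by rw [h6]; exact h7⟩, h5, h6, h7⟩
  · rintro ⟨h1, h2, h4, h5, h6, h7⟩
    exact ⟨h1, ⟨h2, h7⟩, fun h => h4 h.1, h5, h6, h7⟩

/-- Inversions of a self-reflected set. -/
theorem inv_refl {N p : ℕ} (hp : 0 < p) (hN : p ∣ N) {S I J : Finset ℕ}
    (hS : ∀ b < N, (b ∈ S ↔ N - 1 - b ∉ S)) (hIJ : ∀ i < p, (i ∈ I ↔ p - 1 - i ∈ J)) :
    inv N p I S = inv N p J S := by
  have hmod : ∀ b < N, (N - 1 - b) % p = p - 1 - b % p := by
    intro b hb
    obtain ⟨K, hK⟩ := hN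
    have h2 := Nat.div_add_mod b p
    have h3 := Nat.mod_lt b hp
    have hdiv : b / p < K := by
      by_contra hcon
      push Not at hcon
      have := Nat.mul_le_mul_left p hcon
      omega
    obtain ⟨L, hL⟩ : ∃ L, K = b / p + 1 + L := ⟨K - (b / p + 1), by omega⟩
    have h4 : N - 1 - b = p * L + (p - 1 - b % p) := by
      rw [hL] at hK
      have h5 : p * (b / p + 1 + L) = p * (b / p) + p + p * L := by ring
      omega
    rw [h4, Nat.mul_add_mod, Nat.mod_eq_of_lt (by omega)]
  unfold inv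
  refine Finset.card_bij' (i := fun x _ => (N - 1 - x.2, N - 1 - x.1))
    (j := fun x _ => (N - 1 - x.2, N - 1 - x.1)) ?_ ?_ ?_ ?_
  · rintro ⟨b, c⟩ hx
    simp only [Finset.mem_filter, Finset.mem_range, Finset.mem_product] at hx ⊢
    obtain ⟨⟨h1, h2⟩, h3, h4, h5, h6, h7⟩ := hx
    refine ⟨⟨by omega, by omega⟩, ?_, (hS b h1).mp h3, by omega, ?_, ?_⟩
    · have h8 := hS (N - 1 - c) (by omega)
      have h9 : N - 1 - (N - 1 - c) = c := by omega
      rw [h9] at h8
      exact h8.mpr h4
    · rw [hmod b h1, hmod c h2, h6]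
    · rw [hmod c h2, h6]
      exact (hIJ _ (Nat.mod_lt _ hp)).mp h7
  · rintro ⟨b, c⟩ hx
    simp only [Finset.mem_filter, Finset.mem_range, Finset.mem_product] at hx ⊢
    obtain ⟨⟨h1, h2⟩, h3, h4, h5, h6, h7⟩ := hx
    refine ⟨⟨by omega, by omega⟩, ?_, (hS b h1).mp h3, by omega, ?_, ?_⟩
    · have h8 := hS (N - 1 - c) (by omega)
      have h9 : N - 1 - (N - 1 - c) = c := by omega
      rw [h9] at h8
      exact h8.mpr h4
    · rw [hmod b h1, hmod c h2, h6]
    · rw [hmod c h2, h6]
      have h8 := Nat.mod_lt b hp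
      rw [hIJ _ (by omega)]
      have h9 : p - 1 - (p - 1 - b % p) = b % p := by omega
      rw [h9]
      exact h7
  · rintro ⟨b, c⟩ hx
    simp only [Finset.mem_filter, Finset.mem_range, Finset.mem_product] at hx
    ext <;> simp only <;> omega
  · rintro ⟨b, c⟩ hx
    simp only [Finset.mem_filter, Finset.mem_range, Finset.mem_product] at hx
    ext <;> simp only <;> omega

/-- The number of sets of beads on the runners of `I` with given numbers of beads on the runners and
given number of inversions. -/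
theorem card_sets_le {N p : ℕ} (hp : 0 < p) (I : Finset ℕ) (v : ℕ) (r : ℕ → ℕ)
    (𝒯 : Finset (Finset ℕ)) (h𝒯 : ∀ T ∈ 𝒯, T ⊆ range N ∧ (∀ b ∈ T, b % p ∈ I) ∧
      (∀ i ∈ I, #{b ∈ T | b % p = i} = r i) ∧ inv N p I T = v) : 𝒯.card ≤ cc I.card v := by
  classical
  set k : ℕ := ∑ i ∈ I, r i with hk
  have hcard : ∀ T ∈ 𝒯, T.card = k := by
    intro T hT
    obtain ⟨_, h2, h3, _⟩ := h𝒯 T hT
    rw [Finset.card_eq_sum_card_fiberwise (f := fun b => b % p) (t := I) (fun b hb => h2 b hb)]
    exact Finset.sum_congr rfl fun i hi => h3 i hi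
  rcases 𝒯.eq_empty_or_nonempty with rfl | ⟨T₀, hT₀⟩
  · simp
  let e : (T : Finset ℕ) → (Fin k → ℕ) := fun T =>
    if h : T.card = k then T.orderEmbOfFin h else fun _ => 0
  have he : ∀ T ∈ 𝒯, StrictMono (e T) ∧ Set.range (e T) = (T : Set ℕ) := by
    intro T hT
    have h1 : e T = T.orderEmbOfFin (hcard T hT) := by simp only [e, dif_pos (hcard T hT)]
    rw [h1]
    exact ⟨(T.orderEmbOfFin (hcard T hT)).strictMono, Finset.range_orderEmbOfFin _ _⟩
  have hinj : Set.InjOn e 𝒯 := by
    intro T hT T' hT' h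
    have h1 := (he T hT).2
    rw [h, (he T' hT').2] at h1
    exact (Finset.coe_injective h1).symm
  have hres : ∀ T ∈ 𝒯, ∀ i, res p (e T) i = if i ∈ I then r i else 0 := by
    intro T hT i
    obtain ⟨_, h2, h3, _⟩ := h𝒯 T hT
    have h1 : res p (e T) i = #{b ∈ T | b % p = i} := by
      unfold res
      rw [← Finset.card_image_of_injective _ (he T hT).1.injective]
      congr 1
      ext b
      simp only [Finset.mem_image, Finset.mem_filter, Finset.mem_univ, true_and]
      have hb : b ∈ T ↔ b ∈ Set.range (e T) := by rw [(he T hT).2, Finset.mem_coe]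
      rw [hb]
      constructor
      · rintro ⟨j, hj, rfl⟩
        exact ⟨⟨j, rfl⟩, hj⟩
      · rintro ⟨⟨j, rfl⟩, hj⟩
        exact ⟨j, hj, rfl⟩
    rw [h1]
    split_ifs with hi
    · exact h3 i hi
    · rw [Finset.card_eq_zero, Finset.filter_eq_empty_iff]
      intro b hb hbi
      exact hi (hbi ▸ h2 b hb)
  rw [← Finset.card_image_of_injOn hinj]
  apply card_le hp I v (e T₀)
  intro γ hγ
  obtain ⟨T, hT, rfl⟩ := Finset.mem_image.mp hγ
  obtain ⟨h1, h2, h3, h4⟩ := h𝒯 T hT
  have hmem : ∀ b, b ∈ Set.range (e T) ↔ b ∈ T := by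
    intro b; rw [(he T hT).2, Finset.mem_coe]
  refine ⟨(he T hT).1, fun j => h2 _ ((hmem _).mp ⟨j, rfl⟩), ?_, ?_⟩
  · intro i
    rw [hres T₀ hT₀, hres T hT]
  · rw [← h4]
    apply sum_div_eq hp (he T hT).1.injective
    · intro j
      exact Finset.mem_range.mp (h1 ((hmem _).mp ⟨j, rfl⟩))
    · intro b
      rw [hmem]
      constructor
      · intro h; exact ⟨h, h2 b h⟩
      · intro h; exact h.1

end Cfsg.Agent.H615.AltCount
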