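import Cfsg.Agent.H614.Defect
import Cfsg.Agent.H615.AltSpan
import Cfsg.Agent.H615.AltFour
import Cfsg.Agent.S4438

/-!
# Defect groups of blocks of alternating groups

`B` a block of the alternating group with defect group `D` containing a constituent of the restriction
of `ch β₀`, `β₀` of weight `w`.

* `eq_bot` : `w = 0 → D = ⊥`;
* `pow_le_odd` : `p ^ w ≤ p ^ s` for `p` odd if `s` bounds the sectional rank of `D`;
* `pow_le_two` : `2 ^ w ≤ 2 * 2 ^ s` for `p = 2`;
* `four_le` : `4 ≤ 2 ^ s` for `p = 2`, `w = 2`.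
-/

set_option autoImplicit false
set_option linter.unusedSectionVars false

namespace Cfsg.Agent.H615.AltDefect

open Finset Cfsg Cfsg.Agent.H614 Cfsg.Agent.H615.AltRefl Cfsg.Agent.H615.AltConj
open Cfsg.Agent.Characters.Core

universe u

variable {α : Type u} [Fintype α] [DecidableEq α] {m : ℕ}

section

variable {p : ℕ} [hp : Fact p.Prime] {M : Ideal AlgInt}

/-- Knörr's theorem for the alternating group. -/
theorem exists_inf (hM : IsPModular p M)
    {β₀ : Fin m → ℕ} (hβ₀ : StrictMono β₀)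
    (hs₀ : ∑ i, β₀ i = Fintype.card α + ∑ i : Fin m, (i : ℕ))
    {B : Set (IrrCharacter (alternatingGroup α))} (hB : IsPBlock M B)
    {χ₀ : IrrCharacter (alternatingGroup α)} (hχ₀ : χ₀ ∈ B)
    (hc₀ : classInner (fun a : alternatingGroup α => ch α β₀ a) (χ₀ : alternatingGroup α → ℂ) ≠ 0)
    {D : Subgroup (alternatingGroup α)} (hD : IsDefectGroup p M B D) :
    ∃ P : Subgroup (Equiv.Perm α), IsDefectGroup p M (blockOf M (ch α β₀)) P ∧
      P ⊓ alternatingGroup α = D.map (alternatingGroup α).subtype := by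
  have hMp : M.IsPrime := hM.2.1.isPrime
  set X₀ : IrrCharacter (Equiv.Perm α) := ⟨ch α β₀, isIrr_ch hβ₀ hs₀⟩ with hX₀
  have hX₀' : X₀ ∈ blockOf M (X₀ : Equiv.Perm α → ℂ) := Blocks.Basic.mem_blockOf_self X₀
  have h1 : (D.map (alternatingGroup α).subtype).subgroupOf (alternatingGroup α) = D :=
    Subgroup.comap_map_eq_self_of_injective (Subgroup.subtype_injective _) D
  exact S4438.result p M hM (alternatingGroup α) B hB (D.map (alternatingGroup α).subtype)
    (Subgroup.map_subtype_le D) (by rw [h1]; exact hD) (blockOf M (X₀ : Equiv.Perm α → ℂ))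
    (Blocks.Basic.isPBlock_blockOf X₀) ⟨X₀, hX₀', χ₀, hχ₀, hc₀⟩

theorem eq_bot (hM : IsPModular p M) (hm : Fintype.card α ≤ m)
    {β₀ : Fin m → ℕ} (hβ₀ : StrictMono β₀)
    (hs₀ : ∑ i, β₀ i = Fintype.card α + ∑ i : Fin m, (i : ℕ))
    {B : Set (IrrCharacter (alternatingGroup α))} (hB : IsPBlock M B)
    {χ₀ : IrrCharacter (alternatingGroup α)} (hχ₀ : χ₀ ∈ B)
    (hc₀ : classInner (fun a : alternatingGroup α => ch α β₀ a) (χ₀ : alternatingGroup α → ℂ) ≠ 0)
    {D : Subgroup (alternatingGroup α)} (hD : IsDefectGroup p M B D)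
    (hw : ∑ j, β₀ j / p = npairs p β₀) : D = ⊥ := by
  have hMp : M.IsPrime := hM.2.1.isPrime
  obtain ⟨P, hP, hPD⟩ := exists_inf hM hβ₀ hs₀ hB hχ₀ hc₀ hD
  set X₀ : IrrCharacter (Equiv.Perm α) := ⟨ch α β₀, isIrr_ch hβ₀ hs₀⟩ with hX₀
  have hX₀' : X₀ ∈ blockOf M (ch α β₀) := Blocks.Basic.mem_blockOf_self X₀
  have h1 := defect_eq_bot hM hm (Blocks.Basic.isPBlock_blockOf X₀) hβ₀ hs₀ hX₀' rfl hw hP
  rw [h1, bot_inf_eq] at hPD
  exact (Subgroup.map_eq_bot_iff_of_injective _ (Subgroup.subtype_injective _)).mp hPD.symm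

/-- Elementary abelian subgroups of the defect group of the covering block. -/
theorem card_inf_le {P : Subgroup (Equiv.Perm α)} {D : Subgroup (alternatingGroup α)}
    (hPD : P ⊓ alternatingGroup α = D.map (alternatingGroup α).subtype) {s : ℕ}
    (hrank : SectionalPRankLE p s D) {E : Subgroup (Equiv.Perm α)} (hE : E ≤ P)
    (hc : ∀ a ∈ E, ∀ b ∈ E, a * b = b * a) (he : ∀ a ∈ E, a ^ p = 1) :
    Nat.card (E ⊓ alternatingGroup α : Subgroup (Equiv.Perm α)) ≤ p ^ s := by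
  have h1 : E.subgroupOf (alternatingGroup α) ≤ D := by
    intro a ha
    have h2 : (a : Equiv.Perm α) ∈ P ⊓ alternatingGroup α := ⟨hE ha, a.2⟩
    rw [hPD] at h2
    obtain ⟨d, hd, hda⟩ := h2
    rw [← Subtype.ext hda]
    exact hd
  have h2 : Nat.card (E ⊓ alternatingGroup α : Subgroup (Equiv.Perm α)) =
      Nat.card ((E.subgroupOf (alternatingGroup α)).subgroupOf D) := by
    rw [Nat.card_congr (Subgroup.subgroupOfEquivOfLe h1).toEquiv, ← Subgroup.inf_subgroupOf_right,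
      Nat.card_congr (Subgroup.subgroupOfEquivOfLe inf_le_right).toEquiv]
  rw [h2]
  apply card_le_of_sectional hrank
  · intro a ha b hb
    apply Subtype.ext
    apply Subtype.ext
    exact hc _ ha _ hb
  · intro a ha
    apply Subtype.ext
    apply Subtype.ext
    exact he _ ha

/-- A subgroup of index at most two in a group of permutations. -/
theorem card_le_two_mul (E : Subgroup (Equiv.Perm α)) :
    Nat.card E ≤ 2 * Nat.card (E ⊓ alternatingGroup α : Subgroup (Equiv.Perm α)) := by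
  have h1 := Subgroup.card_mul_index ((alternatingGroup α).subgroupOf E)
  have h2 : ((alternatingGroup α).subgroupOf E).index ≤ 2 := by
    have h3 : (alternatingGroup α).relIndex E ∣ (alternatingGroup α).index :=
      Subgroup.relIndex_dvd_index_of_normal _ _
    rcases subsingleton_or_nontrivial α with h | h
    · have h4 : (alternatingGroup α).index = 1 := by
        rw [Subgroup.index_eq_one]
        ext g
        simp [Subsingleton.elim g 1]
      rw [h4] at h3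
      exact (Nat.le_of_dvd one_pos h3).trans (by norm_num)
    · rw [alternatingGroup.index_eq_two] at h3
      exact Nat.le_of_dvd two_pos h3
  have h3 : Nat.card ((alternatingGroup α).subgroupOf E) =
      Nat.card (E ⊓ alternatingGroup α : Subgroup (Equiv.Perm α)) := by
    rw [← Subgroup.inf_subgroupOf_right, inf_comm,
      Nat.card_congr (Subgroup.subgroupOfEquivOfLe inf_le_left).toEquiv]
  rw [← h1, h3, mul_comm]
  exact Nat.mul_le_mul_right _ h2

/-- A conjugate of the group generated by the cycles of `z` lies in the defect group. -/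
theorem exists_cyc (hM : IsPModular p M)
    {β₀ : Fin m → ℕ} (hβ₀ : StrictMono β₀)
    (hs₀ : ∑ i, β₀ i = Fintype.card α + ∑ i : Fin m, (i : ℕ)) {w : ℕ}
    (hw : ∑ j, β₀ j / p = w + npairs p β₀) {P : Subgroup (Equiv.Perm α)}
    (hP : IsDefectGroup p M (blockOf M (ch α β₀)) P) :
    ∃ E : Subgroup (Equiv.Perm α), E ≤ P ∧ (∀ a ∈ E, ∀ b ∈ E, a * b = b * a) ∧
      (∀ a ∈ E, a ^ p = 1) ∧ p ^ w ≤ Nat.card E := by
  have hMp : M.IsPrime := hM.2.1.isPrime
  set X₀ : IrrCharacter (Equiv.Perm α) := ⟨ch α β₀, isIrr_ch hβ₀ hs₀⟩ with hX₀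
  have hX₀' : X₀ ∈ blockOf M (ch α β₀) := Blocks.Basic.mem_blockOf_self X₀
  obtain ⟨h1, h2⟩ := ch_ne_zero (α := α) hβ₀ hs₀ hw
  obtain ⟨z, hz⟩ := exists_cycleType (α := α) h1
  have hzp := pow_eq_one_of_cycleType hz
  have hPg : IsPGroup p (cyc z) := by
    intro g
    refine ⟨1, ?_⟩
    rw [pow_one]
    exact Subtype.ext (cyc_pow hzp g.2)
  have hn : ((cyc z).subgroupOf (Subgroup.centralizer ({z} : Set (Equiv.Perm α)))).Normal := by
    constructor
    intro g hg h
    rw [Subgroup.mem_subgroupOf] at hg ⊢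
    exact conj_mem_cyc (Subgroup.mem_centralizer_singleton_iff.mp h.2) hg
  have hx : ∃ k : ℕ, orderOf z = p ^ k := by
    have h3 := orderOf_dvd_of_pow_eq_one hzp
    rcases (Nat.dvd_prime hp.out).mp h3 with h | h
    · exact ⟨0, by simpa using h⟩
    · exact ⟨1, by simpa using h⟩
  obtain ⟨g, hg⟩ := le_defect_of_normal hM hx (Blocks.Basic.isPBlock_blockOf X₀) hX₀' (h2 z hz) hPg
    (cyc_le_centralizer z) hn hP
  refine ⟨_, hg, ?_, ?_, ?_⟩
  · rintro _ ⟨a, ha, rfl⟩ _ ⟨b, hb, rfl⟩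
    rw [← map_mul, ← map_mul, cyc_comm ha hb]
  · rintro _ ⟨a, ha, rfl⟩
    rw [← map_pow, cyc_pow hzp ha, map_one]
  · refine (pow_le_card_cyc hz).trans (le_of_eq ?_)
    exact Nat.card_congr ((cyc z).equivMapOfInjective _ (MulAut.conj g).injective).toEquiv

variable {β₀ : Fin m → ℕ} {B : Set (IrrCharacter (alternatingGroup α))}
  {χ₀ : IrrCharacter (alternatingGroup α)} {D : Subgroup (alternatingGroup α)}

theorem pow_le_odd (hM : IsPModular p M) (hodd : p ≠ 2) (hβ₀ : StrictMono β₀)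
    (hs₀ : ∑ i, β₀ i = Fintype.card α + ∑ i : Fin m, (i : ℕ)) (hB : IsPBlock M B)
    (hχ₀ : χ₀ ∈ B)
    (hc₀ : classInner (fun a : alternatingGroup α => ch α β₀ a) (χ₀ : alternatingGroup α → ℂ) ≠ 0)
    (hD : IsDefectGroup p M B D) {w : ℕ} (hw : ∑ j, β₀ j / p = w + npairs p β₀) {s : ℕ}
    (hrank : SectionalPRankLE p s D) : p ^ w ≤ p ^ s := by
  obtain ⟨P, hP, hPD⟩ := exists_inf hM hβ₀ hs₀ hB hχ₀ hc₀ hD
  obtain ⟨E, hE, hcomm, hexp, hcard⟩ := exists_cyc hM hβ₀ hs₀ hw hP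
  refine hcard.trans ?_
  have h1 : E ≤ alternatingGroup α := by
    intro a ha
    rw [Equiv.Perm.mem_alternatingGroup]
    have h2 := congrArg Equiv.Perm.sign (hexp a ha)
    rw [map_pow, map_one] at h2
    rcases Int.units_eq_one_or (Equiv.Perm.sign a) with h3 | h3
    · exact h3
    · rw [h3, (hp.out.odd_of_ne_two hodd).neg_one_pow] at h2
      exact absurd h2 (by decide)
  have h2 := card_inf_le hPD hrank hE hcomm hexp
  rwa [inf_eq_left.mpr h1] at h2

theorem pow_le_two (hM : IsPModular p M) (hβ₀ : StrictMono β₀)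
    (hs₀ : ∑ i, β₀ i = Fintype.card α + ∑ i : Fin m, (i : ℕ)) (hB : IsPBlock M B)
    (hχ₀ : χ₀ ∈ B)
    (hc₀ : classInner (fun a : alternatingGroup α => ch α β₀ a) (χ₀ : alternatingGroup α → ℂ) ≠ 0)
    (hD : IsDefectGroup p M B D) {w : ℕ} (hw : ∑ j, β₀ j / p = w + npairs p β₀) {s : ℕ}
    (hrank : SectionalPRankLE p s D) : p ^ w ≤ 2 * p ^ s := by
  obtain ⟨P, hP, hPD⟩ := exists_inf hM hβ₀ hs₀ hB hχ₀ hc₀ hD
  obtain ⟨E, hE, hcomm, hexp, hcard⟩ := exists_cyc hM hβ₀ hs₀ hw hP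
  exact hcard.trans ((card_le_two_mul E).trans
    (Nat.mul_le_mul_left 2 (card_inf_le hPD hrank hE hcomm hexp)))

theorem one_le (hD1 : D ≠ ⊥) (hM : IsPModular p M) (hD : IsDefectGroup p M B D) {s : ℕ}
    (hrank : SectionalPRankLE p s D) : p ≤ p ^ s := by
  have hpg := Blocks.Basic.isPGroup_of_isDefectGroup hD
  have hcard : p ∣ Nat.card D := by
    obtain ⟨k, hk⟩ := IsPGroup.iff_card.mp hpg
    rcases Nat.eq_zero_or_pos k with h | h
    · rw [h, pow_zero] at hk
      exact absurd (Subgroup.card_eq_one.mp hk) hD1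
    · rw [hk]; exact dvd_pow_self p h.ne'
  obtain ⟨x, hx⟩ := exists_prime_orderOf_dvd_card' (G := D) p hcard
  have h1 := card_le_of_sectional hrank (E := Subgroup.zpowers x) ?_ ?_
  · rwa [Nat.card_zpowers, hx] at h1
  · rintro _ ⟨i, rfl⟩ _ ⟨j, rfl⟩
    exact (Commute.refl x).zpow_zpow i j
  · rintro _ ⟨i, rfl⟩
    simp only
    rw [← zpow_natCast, ← zpow_mul, mul_comm, zpow_mul, zpow_natCast, ← hx, pow_orderOf_eq_one,
      one_zpow]

end

section Two

variable {M : Ideal AlgInt} {β₀ : Fin m → ℕ} {B : Set (IrrCharacter (alternatingGroup α))}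
  {χ₀ : IrrCharacter (alternatingGroup α)} {D : Subgroup (alternatingGroup α)}

theorem four_le (hM : IsPModular 2 M) (hβ₀ : StrictMono β₀)
    (hs₀ : ∑ i, β₀ i = Fintype.card α + ∑ i : Fin m, (i : ℕ)) (hB : IsPBlock M B)
    (hχ₀ : χ₀ ∈ B)
    (hc₀ : classInner (fun a : alternatingGroup α => ch α β₀ a) (χ₀ : alternatingGroup α → ℂ) ≠ 0)
    (hD : IsDefectGroup 2 M B D) (hw : ∑ j, β₀ j / 2 = 2 + npairs 2 β₀) {s : ℕ}
    (hrank : SectionalPRankLE 2 s D) : 4 ≤ 2 ^ s := by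
  have : Fact (Nat.Prime 2) := ⟨Nat.prime_two⟩
  have hMp : M.IsPrime := hM.2.1.isPrime
  obtain ⟨P, hP, hPD⟩ := exists_inf hM hβ₀ hs₀ hB hχ₀ hc₀ hD
  set X₀ : IrrCharacter (Equiv.Perm α) := ⟨ch α β₀, isIrr_ch hβ₀ hs₀⟩ with hX₀
  have hX₀' : X₀ ∈ blockOf M (ch α β₀) := Blocks.Basic.mem_blockOf_self X₀
  obtain ⟨h1, h2⟩ := ch_ne_zero (α := α) hβ₀ hs₀ hw
  obtain ⟨a, b, c, d, hab, hac, had, hbc, hbd, hcd⟩ := AltFour.exists_points (α := α) (by omega)
  have hz := AltFour.cycleType_z hab hac had hbc hbd hcd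
  have hPg := AltFour.isPGroup_VV hab hac had hbc hbd hcd
  obtain ⟨E, hEV, hcomm, hexp, hEA, hcard⟩ := AltFour.exists_four hab hac had hbc hbd hcd
  obtain ⟨z, hz'⟩ : ∃ z, z = Equiv.swap a b * Equiv.swap c d := ⟨_, rfl⟩
  rw [← hz'] at hz hPg hEV
  have hn : ((AltFour.VV z).subgroupOf (Subgroup.centralizer ({z} : Set (Equiv.Perm α)))).Normal := by
    constructor
    intro g hg h
    rw [Subgroup.mem_subgroupOf] at hg ⊢
    exact AltFour.conj_mem_VV (Subgroup.mem_centralizer_singleton_iff.mp h.2) hg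
  have hx : ∃ k : ℕ, orderOf z = 2 ^ k := by
    have h3 := orderOf_dvd_of_pow_eq_one (pow_eq_one_of_cycleType hz)
    rcases (Nat.dvd_prime Nat.prime_two).mp h3 with h | h
    · exact ⟨0, by simpa using h⟩
    · exact ⟨1, by simpa using h⟩
  obtain ⟨g, hg⟩ := le_defect_of_normal hM hx (Blocks.Basic.isPBlock_blockOf X₀) hX₀' (h2 z hz) hPg
    (AltFour.VV_le_centralizer z) hn hP
  have hE' : E.map (MulAut.conj g).toMonoidHom ≤ P := (Subgroup.map_mono hEV).trans hg
  have h3 := card_inf_le hPD hrank hE' ?_ ?_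
  · have h4 : E.map (MulAut.conj g).toMonoidHom ≤ alternatingGroup α := by
      rintro _ ⟨x, hx, rfl⟩
      exact (inferInstance : (alternatingGroup α).Normal).conj_mem x (hEA hx) g
    rw [inf_eq_left.mpr h4, ← Nat.card_congr
      (E.equivMapOfInjective _ (MulAut.conj g).injective).toEquiv] at h3
    exact hcard.trans h3
  · rintro _ ⟨a, ha, rfl⟩ _ ⟨b, hb, rfl⟩
    rw [← map_mul, ← map_mul, hcomm a ha b hb]
  · rintro _ ⟨a, ha, rfl⟩
    rw [← map_pow, hexp a ha, map_one]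

end Two

end Cfsg.Agent.H615.AltDefect
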