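import Cfsg.Agent.H615.AltSelf
import Cfsg.Agent.H615.AltMult

/-!
# Numerical inequalities for the blocks of the alternating groups
-/

set_option autoImplicit false

namespace Cfsg.Agent.H615.AltNum

open Finset Cfsg.Agent.H615.AltCount Cfsg.Agent.H615.AltSelf

/-- The sum in `scb` for odd primes. -/
def sb (r w : ℕ) : ℕ := ∑ v ∈ range (w / 2 + 1), cc r v * cc 1 (w - 2 * v)

theorem cc_succ_le (r v : ℕ) : cc r (v + 1) ≤ (r + 1) * cc r v := by
  cases v with
  | zero => simp [cc]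
  | succ v => simp only [cc]; rw [pow_succ]; exact le_of_eq (by ring)

theorem cc_one_succ (v : ℕ) : cc 1 (v + 1) = 2 ^ v := by simp [cc]

theorem sb_step (r w : ℕ) : sb r (w + 2) ≤ 2 ^ (w + 1) + (r + 1) * sb r w := by
  unfold sb
  have h1 : (w + 2) / 2 + 1 = (w / 2 + 1) + 1 := by omega
  rw [h1, Finset.sum_range_succ', Finset.mul_sum]
  have h2 : cc r 0 * cc 1 (w + 2 - 2 * 0) = 2 ^ (w + 1) := by
    rw [Nat.mul_zero, Nat.sub_zero, show w + 2 = (w + 1) + 1 from rfl, cc_one_succ]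
    simp [cc]
  rw [h2, add_comm]
  apply Nat.add_le_add_left
  refine Finset.sum_le_sum fun v _ => ?_
  have h3 : w + 2 - 2 * (v + 1) = w - 2 * v := by omega
  rw [h3, ← mul_assoc]
  exact Nat.mul_le_mul_right _ (cc_succ_le r v)

theorem sb_two (r : ℕ) : sb r 2 = r + 2 := by
  simp [sb, Finset.sum_range_succ, cc]; ring

theorem sb_one (r : ℕ) : sb r 1 = 1 := by
  simp [sb, cc]

theorem sb_three (r : ℕ) : sb r 3 = r + 4 := by
  simp [sb, Finset.sum_range_succ, cc]; ring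

theorem sb_lt {r : ℕ} (hr : 1 ≤ r) (w : ℕ) (hw : 3 ≤ w) : sb r w < (2 * r + 1) ^ (w - 1) := by
  induction w using Nat.strong_induction_on with
  | _ w ih =>
  by_cases h3 : w = 3
  · subst h3
    rw [sb_three]
    norm_num
    nlinarith
  by_cases h4 : w = 4
  · subst h4
    have h := sb_step r 2
    rw [sb_two] at h
    norm_num at h ⊢
    nlinarith [sq_nonneg r]
  obtain ⟨u, rfl⟩ : ∃ u, w = u + 2 := ⟨w - 2, by omega⟩
  have h := sb_step r u
  have h1 := ih u (by omega) (by omega)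
  obtain ⟨t, rfl⟩ : ∃ t, u = t + 1 := ⟨u - 1, by omega⟩
  have e1 : t + 1 - 1 = t := by omega
  have e2 : t + 1 + 2 - 1 = t + 2 := by omega
  rw [e1] at h1
  rw [e2]
  have h2 : 2 ^ t ≤ (2 * r + 1) ^ t := Nat.pow_le_pow_left (by omega) t
  have h5 : (2 : ℕ) ^ (t + 1 + 1) = 4 * 2 ^ t := by rw [pow_add, pow_add]; ring
  have h6 : (2 * r + 1) ^ (t + 2) = (2 * r + 1) ^ 2 * (2 * r + 1) ^ t := by rw [pow_add]; ring
  rw [h5] at h
  rw [h6]
  generalize (2 * r + 1) ^ t = x at *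
  generalize (2 : ℕ) ^ t = y at *
  generalize sb r (t + 1) = z at *
  have h7 : (r + 1) * z ≤ (r + 1) * x := Nat.mul_le_mul_left _ h1.le
  have h8 : 0 < x := by omega
  have h9 : 4 * x + (r + 1) * x < (2 * r + 1) ^ 2 * x := by
    have : 4 * x + (r + 1) * x = (r + 5) * x := by ring
    rw [this]
    apply Nat.mul_lt_mul_of_pos_right _ h8
    nlinarith
  omega

theorem scb_odd {p : ℕ} (hp : p % 2 = 1) (w : ℕ) : scb p w = sb (p / 2) w := by
  unfold scb sb
  rw [hp]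

/-- `p` odd. -/
theorem scb_lt {p : ℕ} (hp : p % 2 = 1) (hp3 : 3 ≤ p) {w : ℕ} (hw : 2 ≤ w)
    (hne : ¬ (p = 3 ∧ w = 2)) : scb p w < p ^ (w - 1) := by
  rw [scb_odd hp]
  have h1 : p = 2 * (p / 2) + 1 := by omega
  rcases Nat.lt_or_ge w 3 with h | h
  · have h2 : w = 2 := by omega
    subst h2
    rw [sb_two]
    norm_num
    omega
  · have h2 := sb_lt (r := p / 2) (by omega) w h
    rwa [← h1] at h2

theorem cc_zero_succ (v : ℕ) : cc 0 (v + 1) = 0 := by simp [cc]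

theorem scb_two_le {w : ℕ} (hw : 2 ≤ w) : scb 2 w ≤ 2 ^ (w / 2 - 1) := by
  unfold scb
  have h1 : ∀ v ∈ range (w / 2 + 1), v ≠ w / 2 → cc (2 / 2) v * cc (2 % 2) (w - 2 * v) = 0 := by
    intro v hv hne
    rw [Finset.mem_range] at hv
    obtain ⟨u, hu⟩ : ∃ u, w - 2 * v = u + 1 := ⟨w - 2 * v - 1, by omega⟩
    rw [hu, show 2 % 2 = 0 from rfl, cc_zero_succ, mul_zero]
  rw [Finset.sum_eq_single_of_mem (w / 2) (Finset.mem_range.mpr (by omega)) h1]
  obtain ⟨u, hu⟩ : ∃ u, w / 2 = u + 1 := ⟨w / 2 - 1, by omega⟩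
  rw [hu, show 2 / 2 = 1 from rfl, cc_one_succ, show u + 1 - 1 = u by omega]
  have h2 : cc (2 % 2) (w - 2 * (u + 1)) ≤ 1 := by
    rw [show 2 % 2 = 0 from rfl]
    rcases Nat.eq_zero_or_pos (w - 2 * (u + 1)) with h | h
    · rw [h]; simp [cc]
    · obtain ⟨t, ht⟩ : ∃ t, w - 2 * (u + 1) = t + 1 := ⟨w - 2 * (u + 1) - 1, by omega⟩
      rw [ht, cc_zero_succ]; exact Nat.zero_le _
  calc 2 ^ u * cc (2 % 2) (w - 2 * (u + 1)) ≤ 2 ^ u * 1 := Nat.mul_le_mul_left _ h2
    _ = 2 ^ u := mul_one _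

theorem fib_le (w : ℕ) : Nat.fib (w + 5) ≤ 5 * 2 ^ w := by
  induction w using Nat.strong_induction_on with
  | _ w ih =>
    match w with
    | 0 => decide
    | 1 => decide
    | w + 2 =>
      have h1 := ih (w + 1) (by omega)
      have h2 := ih w (by omega)
      have h3 : Nat.fib (w + 2 + 5) = Nat.fib (w + 5) + Nat.fib (w + 6) := by
        rw [show w + 2 + 5 = (w + 5) + 2 by ring, Nat.fib_add_two]
      have h4 : Nat.fib (w + 6) = Nat.fib (w + 1 + 5) := by congr 1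
      rw [h3, h4]
      rw [pow_succ] at h1 ⊢
      rw [pow_succ]
      omega

/-- `p = 2`. -/
theorem two_lt {w : ℕ} (hw : 3 ≤ w) :
    Fintype.card (Nat.Partition w) + scb 2 w < 2 ^ (w - 1) := by
  have h1 := AltMult.card_partition_le_fib w
  rcases Nat.lt_or_ge w 4 with h | h
  · have h2 : w = 3 := by omega
    subst h2
    have h3 : scb 2 3 = 0 := by decide
    rw [h3]
    have h4 : Nat.fib 4 = 3 := by decide
    norm_num at h1 ⊢
    omega
  · obtain ⟨u, rfl⟩ : ∃ u, w = u + 4 := ⟨w - 4, by omega⟩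
    have h2 := scb_two_le (w := u + 4) (by omega)
    have h3 := fib_le u
    have h4 : u + 4 - 1 = u + 3 := by omega
    have h5 : (u + 4) / 2 - 1 ≤ u + 1 := by omega
    have h6 : 2 ^ ((u + 4) / 2 - 1) ≤ 2 ^ (u + 1) := Nat.pow_le_pow_right two_pos h5
    rw [h4]
    have h7 : (2 : ℕ) ^ (u + 3) = 8 * 2 ^ u := by rw [pow_add]; ring
    have h8 : (2 : ℕ) ^ (u + 1) = 2 * 2 ^ u := by rw [pow_add]; ring
    have h9 : 0 < 2 ^ u := by positivity
    have h10 : u + 4 + 1 = u + 5 := by ring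
    rw [h10] at h1
    omega

theorem two_weight_one : Fintype.card (Nat.Partition 1) + scb 2 1 < 2 := by
  have h1 := AltMult.card_partition_le_fib 1
  have h2 : scb 2 1 = 0 := by decide
  have h3 : Nat.fib (1 + 1) = 1 := by decide
  omega

theorem two_weight_two : Fintype.card (Nat.Partition 2) + scb 2 2 < 4 := by
  have h1 := AltMult.card_partition_le_fib 2
  have h2 : scb 2 2 = 1 := by decide
  have h3 : Nat.fib (2 + 1) = 2 := by decide
  omega

end Cfsg.Agent.H615.AltNum
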