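import Cfsg.Agent.H614.Rank
import Cfsg.Agent.H615.AltConj

/-!
# Blocks of weight one closed under conjugation of partitions

`weight_one` : an alternating function with raising relations which is invariant under reflection takes
values of weight one (and self-conjugate colour, `p` odd) in a space of dimension at most `(p - 1) / 2`.
-/

set_option autoImplicit false
set_option linter.unusedSectionVars false

namespace Cfsg.Agent.H615.AltOne

open Finset Cfsg.Agent.H614 Cfsg.Agent.H615.AltRefl Cfsg.Agent.H615.AltConj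

variable {m : ℕ} {W : Type*} [AddCommGroup W] [Module ℂ W]

theorem mem_of_hooks {p : ℕ} (hp : 0 < p) {Φ : (Fin m → ℕ) → W} (hΦ : Alt Φ) {c₀ : Fin m → ℕ}
    (hc : Function.Injective c₀) (hc0 : ∑ j, c₀ j / p = npairs p c₀) {γ : Fin m → ℕ}
    (hγ : SameCol p c₀ γ) (hw : ∑ j, γ j / p = 1 + npairs p γ) (K : Submodule ℂ W)
    (hK : ∀ j, p ≤ γ j → Function.Injective (dn γ j p) → Psi Φ p (γ j % p) 1 c₀ ∈ K) : Φ γ ∈ K := by
  have hsum := energy_Psi hΦ γ hw
  rw [one_smul] at hsum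
  rw [← hsum]
  refine Submodule.sum_mem _ fun j _ => Submodule.sum_mem _ fun r hr => ?_
  have hr1 := mem_range.mp hr
  have hle : p * (r + 1) ≤ γ j :=
    le_trans (Nat.mul_le_mul_left _ hr1) (Nat.mul_div_le _ _)
  by_cases hinj : Function.Injective (dn γ j (p * (r + 1)))
  · have hr0 : r = 0 := by
      by_contra hne
      exact not_injective_dn hp hw j hle (by omega) hinj
    subst hr0
    have hle' : p ≤ γ j := by simpa using hle
    have hinj' : Function.Injective (dn γ j p) := by simpa using hinj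
    have h1 := sum_div_dn hp γ j hle
    have h2 := npairs_of_mod (dn_mod (dvd_mul_right p (0 + 1)) γ j hle)
    have h3 := sameCol_dn (dvd_mul_right p (0 + 1)) γ j hle
    obtain ⟨σ, hσ⟩ := exists_perm_of_weight_zero hp hc hinj hc0 (by omega) (hγ.trans h3.symm)
    rw [hσ, Psi_alt hΦ p (γ j % p) (0 + 1), ← Int.cast_smul_eq_zsmul ℂ]
    exact Submodule.smul_mem _ _ (hK j hle' hinj')
  · rw [(Psi_alt hΦ p (γ j % p) (r + 1)).eq_zero_of_not_injective two_torsion_module hinj]
    exact Submodule.zero_mem _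

theorem mod_refl {N p : ℕ} (hp : 0 < p) (hN : p ∣ N) {b : ℕ} (hb : b < N) :
    (N - 1 - b) % p = p - 1 - b % p := by
  obtain ⟨K, hK⟩ := hN
  have h2 := Nat.div_add_mod b p
  have h3 := Nat.mod_lt b hp
  have hdiv : b / p < K := by
    by_contra hcon
    push Not at hcon
    have := Nat.mul_le_mul_left p hcon
    omega
  obtain ⟨L, hL⟩ : ∃ L, K = b / p + 1 + L := ⟨K - (b / p + 1), by omega⟩
  have h4 : N - 1 - b = p * L + (p - 1 - b % p) := by
    rw [hL] at hK
    have h5 : p * (b / p + 1 + L) = p * (b / p) + p + p * L := by ring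
    omega
  rw [h4, Nat.mul_add_mod, Nat.mod_eq_of_lt (by omega)]

theorem mem_span_opposite {p : ℕ} (hp : 0 < p) (hN : p ∣ m + m) {Φ : (Fin m → ℕ) → W}
    (hΦ : Alt Φ) {c₀ : Fin m → ℕ} (hc : Function.Injective c₀)
    (hc0 : ∑ j, c₀ j / p = npairs p c₀) {n : ℕ} (hn : n ≤ m)
    (hs : ∑ j, c₀ j + p = n + ∑ i : Fin m, (i : ℕ))
    (hsym : ∀ γ γ' : Fin m → ℕ, StrictMono γ → StrictMono γ' →
      ∑ i, γ i = n + ∑ i : Fin m, (i : ℕ) → IsRefl γ γ' → Φ γ = Φ γ')
    (hcol : ∀ γ γ' : Fin m → ℕ, SameCol p c₀ γ → IsRefl γ γ' → SameCol p c₀ γ')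
    {i : ℕ} (hi : i < p) : Psi Φ p i 1 c₀ ∈ Submodule.span ℂ {Psi Φ p (p - 1 - i) 1 c₀} := by
  have hexp : Psi Φ p i 1 c₀ = ∑ k, if c₀ k % p = i then Φ (up c₀ k p) else 0 := by
    unfold Psi; simp only [mul_one]
  rw [hexp]
  refine Submodule.sum_mem _ fun k _ => ?_
  split_ifs with hk
  swap
  · exact Submodule.zero_mem _
  obtain ⟨δ, hδ⟩ : ∃ δ, δ = up c₀ k p := ⟨_, rfl⟩
  rw [← hδ]
  by_cases hinj : Function.Injective δ
  swap
  · rw [hΦ.eq_zero_of_not_injective two_torsion_module hinj]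
    exact Submodule.zero_mem _
  have hδk : δ k = c₀ k + p := by rw [hδ, up_self]
  have hδne : ∀ l, l ≠ k → δ l = c₀ l := fun l hl => by rw [hδ, up_ne _ _ hl]
  have hdn : dn δ k p = c₀ := by rw [hδ, dn_up_self]
  -- sort
  set σ := Tuple.sort δ with hσ
  have hmono : StrictMono (δ ∘ σ) :=
    (Tuple.monotone_sort δ).strictMono_of_injective (hinj.comp σ.injective)
  have hrange : Set.range (δ ∘ σ) = Set.range δ := by
    rw [Set.range_comp]; simp
  have hsumδ : ∑ j, δ j = n + ∑ i : Fin m, (i : ℕ) := by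
    rw [hδ, sum_up]; exact hs
  have hsumσ : ∑ j, (δ ∘ σ) j = n + ∑ i : Fin m, (i : ℕ) := by
    rw [← hsumδ]; exact Equiv.sum_comp σ δ
  obtain ⟨δ', hmono', hr⟩ := exists_refl (m' := m) hmono (lt_of_strictMono hmono hsumσ hn)
  have hΦδ : Φ δ = sg σ • Φ (δ ∘ σ) := by
    rw [hΦ, smul_smul, sg_mul_self, one_smul]
  rw [hΦδ, hsym _ _ hmono hmono' hsumσ hr, ← Int.cast_smul_eq_zsmul ℂ]
  apply Submodule.smul_mem
  have hcolδ : SameCol p c₀ (δ ∘ σ) := by
    have h1 : SameCol p δ c₀ := by rw [hδ]; exact sameCol_up (dvd_refl p) c₀ k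
    exact ((sameCol_comp p δ σ).trans h1).symm
  have hcol' := hcol _ _ hcolδ hr
  -- the weight of `δ ∘ σ`
  have hwδ : ∑ j, (δ ∘ σ) j / p = 1 + npairs p (δ ∘ σ) := by
    have h1 : ∑ j, (δ ∘ σ) j / p = ∑ j, δ j / p := Equiv.sum_comp σ (fun j => δ j / p)
    have h2 := npairs_of_sameCol hcolδ
    have h3 := sum_div_dn hp δ k (c := 1) (by rw [hδk]; omega)
    rw [mul_one, hdn] at h3
    omega
  have hw' : ∑ j, δ' j / p = 1 + npairs p δ' :=
    weight_of_sameCol hp (hcolδ.symm.trans hcol')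
      (hsumσ.trans (sum_refl hr hmono hsumσ).symm) hwδ
  refine mem_of_hooks hp hΦ hc hc0 hcol' hw' _ fun j hj hdinj => ?_
  have hmodj : δ' j % p = p - 1 - i := by
    obtain ⟨b', hb'⟩ : ∃ b', b' = δ' j := ⟨_, rfl⟩
    have hb'lt : b' < m + m := by rw [hb']; exact hr.lt' j
    have hj' : p ≤ b' := by rw [hb']; exact hj
    have hno : b' - p ∉ Set.range δ' := by
      rintro ⟨l, hl⟩
      by_cases hlj : l = j
      · subst hlj; omega
      · apply hlj
        apply hdinj
        rw [dn_self, dn_ne _ _ hlj, hl, hb']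
    have hb1 : m + m - 1 - (b' - p) ∈ Set.range δ := by
      rw [← hrange, hr.iff _ (by omega)]
      have h1 : m + m - 1 - (m + m - 1 - (b' - p)) = b' - p := by omega
      rw [h1]; exact hno
    have hb2 : m + m - 1 - b' ∉ Set.range δ := by
      rw [← hrange, hr.iff _ (by omega), not_not]
      have h1 : m + m - 1 - (m + m - 1 - b') = b' := by omega
      rw [h1]; exact ⟨j, hb'.symm⟩
    obtain ⟨l, hl⟩ := hb1
    have hlk : l = k := by
      by_contra hlk
      have h1 := hδne l hlk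
      rw [h1] at hl
      have h2 : p ≤ c₀ l := by omega
      have h3 : 1 ≤ c₀ l / p := by
        rw [Nat.le_div_iff_mul_le hp]; omega
      obtain ⟨q, hq⟩ := down_of_weight_zero hp hc hc0 l (t := c₀ l / p - 1) (by omega)
      have h4 := Nat.div_add_mod (c₀ l) p
      have h5 : p * (c₀ l / p - 1) = p * (c₀ l / p) - p := by
        rw [Nat.mul_sub, mul_one]
      have h6 : p * 1 ≤ p * (c₀ l / p) := Nat.mul_le_mul_left p h3
      have h7 : c₀ q + p = c₀ l := by omega
      by_cases hqk : q = k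
      · subst hqk
        apply hlk
        apply hinj
        rw [h1, hδk, h7]
      · apply hb2
        refine ⟨q, ?_⟩
        rw [hδne q hqk]
        omega
    rw [hlk, hδk] at hl
    have h1 : c₀ k + p < m + m := by omega
    have h2 := mod_refl hp hN h1
    rw [Nat.add_mod_right, hk] at h2
    have h3 : b' = m + m - 1 - (c₀ k + p) + p := by omega
    rw [← hb', h3, Nat.add_mod_right, h2]
  rw [hmodj]
  exact Submodule.subset_span rfl

/-- **Weight one.** -/
theorem weight_one [DecidableEq W] {p : ℕ} (hp : 0 < p) (hodd : p % 2 = 1) (hN : p ∣ m + m)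
    {Φ : (Fin m → ℕ) → W}
    (hΦ : Alt Φ) (hR : UpRel p Φ) {c₀ : Fin m → ℕ} (hc : Function.Injective c₀)
    (hc0 : ∑ j, c₀ j / p = npairs p c₀) {n : ℕ} (hn : n ≤ m)
    (hs : ∑ j, c₀ j + p = n + ∑ i : Fin m, (i : ℕ))
    (hsym : ∀ γ γ' : Fin m → ℕ, StrictMono γ → StrictMono γ' →
      ∑ i, γ i = n + ∑ i : Fin m, (i : ℕ) → IsRefl γ γ' → Φ γ = Φ γ')
    (hcol : ∀ γ γ' : Fin m → ℕ, SameCol p c₀ γ → IsRefl γ γ' → SameCol p c₀ γ') :
    ∃ T : Finset W, T.card ≤ p / 2 ∧ ∀ γ : Fin m → ℕ, SameCol p c₀ γ →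
      ∑ j, γ j / p = 1 + npairs p γ → Φ γ ∈ Submodule.span ℂ (T : Set W) := by
  set T : Finset W := (range (p / 2)).image (fun i => Psi Φ p i 1 c₀) with hT
  have hlow : ∀ i, i < p / 2 → Psi Φ p i 1 c₀ ∈ Submodule.span ℂ (T : Set W) := by
    intro i hi
    apply Submodule.subset_span
    rw [hT, Finset.mem_coe]
    exact Finset.mem_image_of_mem (fun i => Psi Φ p i 1 c₀) (Finset.mem_range.mpr hi)
  have hne : ∀ i, i < p → i ≠ p / 2 → Psi Φ p i 1 c₀ ∈ Submodule.span ℂ (T : Set W) := by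
    intro i hi hne
    rcases lt_or_gt_of_ne hne with h | h
    · exact hlow i h
    · have h1 := mem_span_opposite hp hN hΦ hc hc0 hn hs hsym hcol hi
      have h2 := hlow (p - 1 - i) (by omega)
      refine (Submodule.span_le.mpr ?_) h1
      rintro _ rfl
      exact h2
  have hall : ∀ i, i < p → Psi Φ p i 1 c₀ ∈ Submodule.span ℂ (T : Set W) := by
    intro i hi
    by_cases h : i = p / 2
    · subst h
      have h1 := sum_Psi hp hR one_pos c₀
      rw [← Finset.add_sum_erase _ _ (Finset.mem_range.mpr hi)] at h1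
      rw [eq_neg_of_add_eq_zero_left h1]
      apply Submodule.neg_mem
      refine Submodule.sum_mem _ fun j hj => ?_
      rw [Finset.mem_erase, Finset.mem_range] at hj
      exact hne j hj.2 hj.1
    · exact hne i hi h
  refine ⟨T, ?_, fun γ hγ hw => ?_⟩
  · exact Finset.card_image_le.trans (by rw [Finset.card_range])
  · exact mem_of_hooks hp hΦ hc hc0 hγ hw _ fun j _ _ => hall _ (Nat.mod_lt _ hp)

end Cfsg.Agent.H615.AltOne
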