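import Cfsg.Agent.H615.SLRadical
import Cfsg.Agent.H615.DefZeroAlg

/-!
# The Bruhat-type data of `SL_n(F)`
-/

set_option autoImplicit false

namespace Cfsg.Agent.H615.SLBru

open Matrix SLRad DefZeroAlg

variable {F : Type*} [Field F] {n : ℕ}

local notation "SL" => Matrix.SpecialLinearGroup (Fin n) F

/-- The standard basis vector. -/
abbrev ee (F : Type*) [Field F] {n : ℕ} (i : Fin n) : Fin n → F := Pi.single i 1

theorem ee_same (a : Fin n) : ee F a a = 1 := Pi.single_eq_same _ _

theorem ee_ne {a b : Fin n} (h : a ≠ b) : ee F b a = 0 := Pi.single_eq_of_ne h _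

theorem ee_apply (a b : Fin n) : ee F b a = if a = b then 1 else 0 := by
  by_cases h : a = b
  · subst h; rw [ee_same, if_pos rfl]
  · rw [ee_ne h, if_neg h]

theorem entry_eq (g : SL) (a b : Fin n) : (g : Matrix (Fin n) (Fin n) F) a b = act g (ee F b) a := by
  simp [act]

theorem act_eq_sum (g : SL) (v : Fin n → F) (a : Fin n) : act g v a = ∑ b, (g : Matrix (Fin n) (Fin n) F) a b * v b := rfl

/-- Inverse closure in a finite group. -/
theorem inv_mem_of_finite {G : Type*} [Group G] [Finite G] (S : Submonoid G) {x : G} (hx : x ∈ S) : x⁻¹ ∈ S := by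
  have h : x⁻¹ = x ^ (orderOf x - 1) := by
    have h1 : x ^ (orderOf x - 1) * x = 1 := by
      rw [← pow_succ, Nat.sub_add_cancel (orderOf_pos x), pow_orderOf_eq_one]
    exact inv_eq_of_mul_eq_one_left h1
  rw [h]
  exact S.pow_mem hx _

/-- Upper unitriangular matrices. -/
def UU (F : Type*) [Field F] [Finite F] (n : ℕ) : Subgroup (Matrix.SpecialLinearGroup (Fin n) F) :=
  let S : Submonoid (Matrix.SpecialLinearGroup (Fin n) F) :=
    { carrier := {g | ∀ a b, b ≤ a → (g : Matrix (Fin n) (Fin n) F) a b = if a = b then 1 else 0}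
      one_mem' := fun a b _ => by
        rw [Matrix.SpecialLinearGroup.coe_one, Matrix.one_apply]
      mul_mem' := by
        intro g h hg hh a b hab
        rw [Matrix.SpecialLinearGroup.coe_mul, Matrix.mul_apply]
        have h0 : ∀ c, c ≠ a → (g : Matrix (Fin n) (Fin n) F) a c * (h : Matrix (Fin n) (Fin n) F) c b = 0 := by
          intro c hc
          rcases lt_or_gt_of_ne hc with h1 | h1
          · rw [hg a c h1.le, if_neg (Ne.symm hc), zero_mul]
          · rw [hh c b (hab.trans h1.le), if_neg (fun h => by subst h; exact absurd h1 (not_lt.2 hab)), mul_zero]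
        rw [Finset.sum_eq_single a (fun c _ hc => h0 c hc) (fun h => absurd (Finset.mem_univ _) h),
          hg a a le_rfl, if_pos rfl, one_mul, hh a b hab] }
  { S with inv_mem' := fun {x} hx => inv_mem_of_finite S hx }

theorem mem_UU [Finite F] {g : SL} :
    g ∈ UU F n ↔ ∀ a b, b ≤ a → (g : Matrix (Fin n) (Fin n) F) a b = if a = b then 1 else 0 := Iff.rfl

theorem mem_UU' [Finite F] {g : SL} :
    g ∈ UU F n ↔ ∀ a b, b ≤ a → act g (ee F b) a = if a = b then 1 else 0 := by
  rw [mem_UU]
  simp only [entry_eq]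

/-- Diagonal matrices. -/
def TT (F : Type*) [Field F] [Finite F] (n : ℕ) : Subgroup (Matrix.SpecialLinearGroup (Fin n) F) :=
  let S : Submonoid (Matrix.SpecialLinearGroup (Fin n) F) :=
    { carrier := {g | ∀ a b, a ≠ b → (g : Matrix (Fin n) (Fin n) F) a b = 0}
      one_mem' := fun a b hab => by
        rw [Matrix.SpecialLinearGroup.coe_one, Matrix.one_apply, if_neg hab]
      mul_mem' := by
        intro g h hg hh a b hab
        rw [Matrix.SpecialLinearGroup.coe_mul, Matrix.mul_apply]
        refine Finset.sum_eq_zero fun c _ => ?_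
        by_cases h1 : a = c
        · subst h1; rw [hh a b hab, mul_zero]
        · rw [hg a c h1, zero_mul] }
  { S with inv_mem' := fun {x} hx => inv_mem_of_finite S hx }

theorem mem_TT [Finite F] {g : SL} :
    g ∈ TT F n ↔ ∀ a b, a ≠ b → (g : Matrix (Fin n) (Fin n) F) a b = 0 := Iff.rfl

theorem act_TT [Finite F] {t : SL} (ht : t ∈ TT F n) (v : Fin n → F) (a : Fin n) :
    act t v a = (t : Matrix (Fin n) (Fin n) F) a a * v a := by
  rw [act_eq_sum, Finset.sum_eq_single a]
  · intro b _ hb
    rw [ht a b (Ne.symm hb), zero_mul]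
  · intro h; exact absurd (Finset.mem_univ _) h

theorem mem_TT_of_act [Finite F] {t : SL} {d : Fin n → F} (h : ∀ v a, act t v a = d a * v a) : t ∈ TT F n := by
  intro a b hab
  rw [entry_eq, h, ee_ne hab, mul_zero]

theorem TT_comm [Finite F] {t s : SL} (ht : t ∈ TT F n) (hs : s ∈ TT F n) : t * s = s * t := by
  apply ext_act
  intro v
  ext a
  rw [act_mul, act_mul, act_TT ht, act_TT hs, act_TT hs, act_TT ht]
  ring

theorem diag_ne_zero [Finite F] {t : SL} (ht : t ∈ TT F n) (a : Fin n) :
    (t : Matrix (Fin n) (Fin n) F) a a ≠ 0 := by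
  intro h
  have h1 := congrFun (act_act_inv t (ee F a)) a
  rw [act_TT ht, h, zero_mul, ee_same] at h1
  exact zero_ne_one h1

theorem TT_UU [Finite F] {t u : SL} (ht : t ∈ TT F n) (hu : u ∈ UU F n) : t * u * t⁻¹ ∈ UU F n := by
  intro a b hab
  have h1 : (t * u * t⁻¹) * t = t * u := by group
  have h2 := congrArg (fun g : SL => (g : Matrix (Fin n) (Fin n) F) a b) h1
  simp only [Matrix.SpecialLinearGroup.coe_mul (t * u * t⁻¹) t, Matrix.SpecialLinearGroup.coe_mul t u] at h2
  rw [Matrix.mul_apply, Matrix.mul_apply, Finset.sum_eq_single b, Finset.sum_eq_single a, hu a b hab] at h2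
  · by_cases hab' : a = b
    · subst hab'
      rw [if_pos rfl, mul_one] at h2
      rw [if_pos rfl]
      exact mul_right_cancel₀ (diag_ne_zero ht a) (by rw [h2, one_mul])
    · rw [if_neg hab', mul_zero] at h2
      rw [if_neg hab']
      rcases mul_eq_zero.1 h2 with h3 | h3
      · exact h3
      · exact absurd h3 (diag_ne_zero ht b)
  · intro c _ hc
    rw [ht a c (Ne.symm hc), zero_mul]
  · intro h; exact absurd (Finset.mem_univ _) h
  · intro c _ hc
    rw [ht c b hc, mul_zero]
  · intro h; exact absurd (Finset.mem_univ _) h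

/-- `UU` is a `p`-group. -/
theorem isPGroup_UU [Finite F] (p : ℕ) [hp : Fact p.Prime] [CharP F p] : IsPGroup p (UU F n) := by
  rintro ⟨u, hu⟩
  refine ⟨n, ?_⟩
  apply Subtype.ext
  push_cast
  set N : Matrix (Fin n) (Fin n) F := (u : Matrix (Fin n) (Fin n) F) - 1 with hN
  have hNe : ∀ a b : Fin n, b ≤ a → N a b = 0 := by
    intro a b hab
    rw [hN, Matrix.sub_apply, hu a b hab, Matrix.one_apply, sub_self]
  have hpow : ∀ k : ℕ, ∀ a b : Fin n, (b : ℕ) < a + k → (N ^ k) a b = 0 := by
    intro k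
    induction k with
    | zero =>
      intro a b hab
      rw [pow_zero, Matrix.one_apply, if_neg]
      rintro rfl
      simp at hab
    | succ k ih =>
      intro a b hab
      rw [pow_succ, Matrix.mul_apply]
      refine Finset.sum_eq_zero fun c _ => ?_
      by_cases h1 : (c : ℕ) < a + k
      · rw [ih a c h1, zero_mul]
      · rw [hNe c b (by rw [Fin.le_def]; omega), mul_zero]
  have hNn : N ^ n = 0 := by
    ext a b
    rw [hpow n a b (by omega)]
    rfl
  have hle : n ≤ p ^ n := (Nat.lt_pow_self hp.1.one_lt).le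
  have hNp : N ^ p ^ n = 0 := by
    rw [← Nat.sub_add_cancel hle, pow_add, hNn, mul_zero]
  apply Subtype.ext
  rw [Matrix.SpecialLinearGroup.coe_pow, Matrix.SpecialLinearGroup.coe_one]
  have hu1 : (u : Matrix (Fin n) (Fin n) F) = N + 1 := by rw [hN]; abel
  rcases Nat.eq_zero_or_pos n with h0 | h0
  · subst h0
    exact Subsingleton.elim _ _
  · have : Nonempty (Fin n) := ⟨⟨0, h0⟩⟩
    have : CharP (Matrix (Fin n) (Fin n) F) p := inferInstance
    rw [hu1, add_pow_char_pow_of_commute p n (Commute.one_right N), hNp, one_pow, zero_add]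

/-! ### Elements acting on two coordinates -/

/-- `g` acts on the coordinates `a`, `b` as the matrix `A` and fixes the others. -/
def IsTwo (a b : Fin n) (g : Matrix.SpecialLinearGroup (Fin n) F) (A : Matrix (Fin 2) (Fin 2) F) : Prop :=
  ∀ v, (act g v a = A 0 0 * v a + A 0 1 * v b) ∧ (act g v b = A 1 0 * v a + A 1 1 * v b) ∧
    ∀ s, s ≠ a → s ≠ b → act g v s = v s

theorem IsTwo.mul {a b : Fin n} {g h : SL} {A B : Matrix (Fin 2) (Fin 2) F} (hg : IsTwo a b g A)
    (hh : IsTwo a b h B) : IsTwo a b (g * h) (A * B) := by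
  intro v
  obtain ⟨h1, h2, h3⟩ := hh v
  obtain ⟨g1, g2, g3⟩ := hg (act h v)
  refine ⟨?_, ?_, fun s hs hs' => ?_⟩
  · rw [act_mul, g1, h1, h2, Matrix.mul_apply, Matrix.mul_apply, Fin.sum_univ_two, Fin.sum_univ_two]
    ring
  · rw [act_mul, g2, h1, h2, Matrix.mul_apply, Matrix.mul_apply, Fin.sum_univ_two, Fin.sum_univ_two]
    ring
  · rw [act_mul, g3 s hs hs', h3 s hs hs']

theorem IsTwo.unique {a b : Fin n} {g h : SL} {A B : Matrix (Fin 2) (Fin 2) F} (hg : IsTwo a b g A)
    (hh : IsTwo a b h B) (hAB : A = B) : g = h := by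
  subst hAB
  apply ext_act
  intro v
  ext s
  obtain ⟨h1, h2, h3⟩ := hh v
  obtain ⟨g1, g2, g3⟩ := hg v
  by_cases hs : s = a
  · rw [hs, h1, g1]
  · by_cases hs' : s = b
    · rw [hs', h2, g2]
    · rw [h3 s hs hs', g3 s hs hs']

/-- `1 + c E_{ab}`. -/
def xx {a b : Fin n} (hab : a ≠ b) (c : F) : Matrix.SpecialLinearGroup (Fin n) F :=
  Matrix.SpecialLinearGroup.transvection hab c

theorem act_xx {a b : Fin n} (hab : a ≠ b) (c : F) (v : Fin n → F) (s : Fin n) :
    act (xx hab c) v s = v s + if s = a then c * v b else 0 := by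
  show (Matrix.transvection a b c *ᵥ v) s = _
  rw [Matrix.transvection, Matrix.add_mulVec, Matrix.one_mulVec, Pi.add_apply]
  congr 1
  rw [Matrix.single_mulVec]
  by_cases hs : s = a
  · subst hs; simp
  · simp [hs]

theorem isTwo_xx {a b : Fin n} (hab : a ≠ b) (c : F) : IsTwo a b (xx hab c) !![1, c; 0, 1] := by
  intro v
  refine ⟨?_, ?_, fun s hs _ => ?_⟩
  · rw [act_xx, if_pos rfl]; simp
  · rw [act_xx, if_neg (Ne.symm hab)]; simp
  · rw [act_xx, if_neg hs, add_zero]

theorem isTwo_yy {a b : Fin n} (hab : a ≠ b) (c : F) : IsTwo a b (xx (Ne.symm hab) c) !![1, 0; c, 1] := by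
  intro v
  refine ⟨?_, ?_, fun s _ hs => ?_⟩
  · rw [act_xx, if_neg hab]; simp
  · rw [act_xx, if_pos rfl]; simp; ring
  · rw [act_xx, if_neg hs, add_zero]

/-- the reflection representative -/
def mmm {a b : Fin n} (hab : a ≠ b) : Matrix.SpecialLinearGroup (Fin n) F :=
  xx hab 1 * xx (Ne.symm hab) (-1) * xx hab 1

theorem isTwo_mmm {a b : Fin n} (hab : a ≠ b) : IsTwo a b (mmm hab : SL) !![0, 1; -1, 0] := by
  have h := ((isTwo_xx (F := F) hab 1).mul (isTwo_yy hab (-1))).mul (isTwo_xx hab 1)
  have h2 : (!![1, 1; 0, 1] * !![1, 0; -1, 1] * !![1, 1; 0, 1] : Matrix (Fin 2) (Fin 2) F) = !![0, 1; -1, 0] := by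
    simp
  rwa [h2] at h

theorem isTwo_mmm_inv {a b : Fin n} (hab : a ≠ b) : IsTwo a b ((mmm hab)⁻¹ : SL) !![0, -1; 1, 0] := by
  have h : (mmm hab : SL)⁻¹ = xx hab (-1) * xx (Ne.symm hab) 1 * xx hab (-1) := by
    rw [inv_eq_iff_mul_eq_one]
    refine (((isTwo_mmm (F := F) hab).mul (((isTwo_xx (F := F) hab (-1)).mul (isTwo_yy hab 1)).mul
      (isTwo_xx hab (-1))))).unique (B := 1) ?_ ?_
    · intro v
      refine ⟨?_, ?_, fun s _ _ => ?_⟩ <;> rw [act_one] <;> simp
    · simp [Matrix.one_fin_two]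
  rw [h]
  have h := ((isTwo_xx (F := F) hab (-1)).mul (isTwo_yy hab 1)).mul (isTwo_xx hab (-1))
  have h2 : (!![1, -1; 0, 1] * !![1, 0; 1, 1] * !![1, -1; 0, 1] : Matrix (Fin 2) (Fin 2) F) = !![0, -1; 1, 0] := by
    simp
  rwa [h2] at h

/-- the torus element `diag(t, t⁻¹)` -/
def hhh {a b : Fin n} (hab : a ≠ b) (t : Fˣ) : Matrix.SpecialLinearGroup (Fin n) F :=
  xx hab (t : F) * xx (Ne.symm hab) (-((t⁻¹ : Fˣ) : F)) * xx hab (t : F) * (mmm hab)⁻¹

theorem isTwo_hhh {a b : Fin n} (hab : a ≠ b) (t : Fˣ) :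
    IsTwo a b (hhh hab t : SL) !![(t : F), 0; 0, ((t⁻¹ : Fˣ) : F)] := by
  have h := (((isTwo_xx (F := F) hab (t : F)).mul (isTwo_yy hab (-((t⁻¹ : Fˣ) : F)))).mul
    (isTwo_xx hab (t : F))).mul (isTwo_mmm_inv hab)
  have h2 : (!![1, (t : F); 0, 1] * !![1, 0; -((t⁻¹ : Fˣ) : F), 1] * !![1, (t : F); 0, 1] * !![0, -1; 1, 0] :
      Matrix (Fin 2) (Fin 2) F) = !![(t : F), 0; 0, ((t⁻¹ : Fˣ) : F)] := by
    simp
  rwa [h2] at h

theorem IsTwo.one {a b : Fin n} : IsTwo a b (1 : SL) !![1, 0; 0, 1] := by
  intro v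
  refine ⟨?_, ?_, fun s _ _ => ?_⟩ <;> rw [act_one] <;> simp

theorem xx_add {a b : Fin n} (hab : a ≠ b) (c d : F) : xx hab (c + d) = xx hab c * xx hab d := by
  refine (isTwo_xx hab (c + d)).unique ((isTwo_xx hab c).mul (isTwo_xx hab d)) ?_
  simp [add_comm]

theorem xx_inv {a b : Fin n} (hab : a ≠ b) (c : F) : (xx hab c)⁻¹ = xx hab (-c) := by
  rw [inv_eq_iff_mul_eq_one]
  refine ((isTwo_xx hab c).mul (isTwo_xx hab (-c))).unique IsTwo.one ?_
  simp

theorem xx_injective {a b : Fin n} (hab : a ≠ b) : Function.Injective (xx hab : F → SL) := by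
  intro c d h
  have := congrFun (congrArg (fun g => act g (ee F b)) h) a
  simp only [act_xx, if_true, ee_same, ee_ne hab] at this
  simpa using this

theorem hhh_mem [Finite F] {a b : Fin n} (hab : a ≠ b) (t : Fˣ) : hhh hab t ∈ TT F n := by
  refine mem_TT_of_act (d := fun s => if s = a then (t : F) else if s = b then ((t⁻¹ : Fˣ) : F) else 1) ?_
  intro v s
  obtain ⟨h1, h2, h3⟩ := isTwo_hhh hab t v
  by_cases hs : s = a
  · subst hs; rw [h1]; simp
  · by_cases hs' : s = b
    · subst hs'; rw [h2]; simp [hs]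
    · rw [h3 s hs hs']; simp [hs, hs']

theorem hhh_mul {a b : Fin n} (hab : a ≠ b) (t u : Fˣ) : (hhh hab (t * u) : SL) = hhh hab t * hhh hab u := by
  refine (isTwo_hhh hab (t * u)).unique ((isTwo_hhh hab t).mul (isTwo_hhh hab u)) ?_
  simp [mul_comm]

theorem xx_mem [Finite F] {a b : Fin n} (hab : a < b) (c : F) : xx hab.ne c ∈ UU F n := by
  rw [mem_UU']
  intro s r hrs
  rw [act_xx, ee_apply]
  by_cases h : s = a
  · rw [if_pos h, ee_ne (by rintro rfl; exact absurd hrs (not_le.2 (h ▸ hab))), mul_zero, add_zero]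
  · rw [if_neg h, add_zero]

theorem rel_eq {a b : Fin n} (hab : a ≠ b) (t : Fˣ) :
    (mmm hab * xx hab (t : F) * mmm hab : SL) =
      xx hab (-((t⁻¹ : Fˣ) : F)) * mmm hab * hhh hab (-t) * xx hab (-((t⁻¹ : Fˣ) : F)) := by
  refine (((isTwo_mmm hab).mul (isTwo_xx hab (t : F))).mul (isTwo_mmm hab)).unique
    ((((isTwo_xx hab (-((t⁻¹ : Fˣ) : F))).mul (isTwo_mmm hab)).mul (isTwo_hhh hab (-t))).mul
      (isTwo_xx hab (-((t⁻¹ : Fˣ) : F)))) ?_
  ext i j
  fin_cases i <;> fin_cases j <;> simp

theorem T_xx [Finite F] {a b : Fin n} (hab : a ≠ b) {t : SL} (ht : t ∈ TT F n) (c : F) :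
    t * xx hab c * t⁻¹ = xx hab ((t : Matrix (Fin n) (Fin n) F) a a * ((t : Matrix (Fin n) (Fin n) F) b b)⁻¹ * c) := by
  rw [mul_inv_eq_iff_eq_mul]
  apply ext_act
  intro v
  ext s
  rw [act_mul, act_mul, act_TT ht, act_xx, act_xx, act_TT ht, act_TT ht]
  by_cases hs : s = a
  · subst hs
    rw [if_pos rfl, if_pos rfl]
    have := diag_ne_zero ht b
    field_simp
  · rw [if_neg hs, if_neg hs, add_zero, add_zero]

theorem m_T_m [Finite F] {a b : Fin n} (hab : a ≠ b) {t : SL} (ht : t ∈ TT F n) :
    (mmm hab)⁻¹ * t * mmm hab ∈ TT F n := by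
  refine mem_TT_of_act (d := fun s => if s = a then (t : Matrix (Fin n) (Fin n) F) b b else
    if s = b then (t : Matrix (Fin n) (Fin n) F) a a else (t : Matrix (Fin n) (Fin n) F) s s) ?_
  intro v s
  rw [act_mul, act_mul]
  obtain ⟨h1, h2, h3⟩ := isTwo_mmm (F := F) hab v
  obtain ⟨g1, g2, g3⟩ := isTwo_mmm_inv (F := F) hab (act t (act (mmm hab) v))
  by_cases hs : s = a
  · subst hs; rw [g1, act_TT ht, act_TT ht, h1, h2]; simp
  · by_cases hs' : s = b
    · subst hs'; rw [g2, act_TT ht, act_TT ht, h1, h2]; simp [hs]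
    · rw [g3 s hs hs', act_TT ht, h3 s hs hs']; simp [hs, hs']

/-- `U ∩ m U m⁻¹`. -/
theorem m_U_m [Finite F] {a b : Fin n} (hab : (a : ℕ) + 1 = b) (hne : a ≠ b) {r : SL} (hr : r ∈ UU F n)
    (hrab : (r : Matrix (Fin n) (Fin n) F) a b = 0) : (mmm hne)⁻¹ * r * mmm hne ∈ UU F n := by
  rw [mem_UU] at hr
  rw [mem_UU']
  intro s t hts
  rw [act_mul, act_mul]
  have hts' : (t : ℕ) ≤ s := hts
  obtain ⟨h1, h2, h3⟩ := isTwo_mmm (F := F) hne (ee F t)
  obtain ⟨g1, g2, g3⟩ := isTwo_mmm_inv (F := F) hne (act r (act (mmm hne) (ee F t)))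
  -- `m e_t`
  have hme : act (mmm hne : SL) (ee F t) = if t = a then - ee F b else if t = b then ee F a else ee F t := by
    ext u
    by_cases hu : u = a
    · subst hu
      rw [h1]
      by_cases ht : t = u
      · subst ht; simp [hne, Pi.single_apply]
      · by_cases ht' : t = b
        · subst ht'; simp [Pi.single_apply, hne, hne.symm]
        · simp [Pi.single_apply, ht, ht', Ne.symm ht, Ne.symm ht']
    · by_cases hu' : u = b
      · subst hu'
        rw [h2]
        by_cases ht : t = a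
        · subst ht; simp
        · by_cases ht' : t = u
          · subst ht'; simp [Pi.single_apply, hne, hne.symm]
          · simp [Pi.single_apply, ht, ht', Ne.symm ht, Ne.symm ht']
      · rw [h3 u hu hu']
        by_cases ht : t = a
        · subst ht; simp [Pi.single_apply, hu, hu']
        · by_cases ht' : t = b
          · subst ht'; simp [Pi.single_apply, hu, hu', hne.symm]
          · simp [ht, ht']
  have hre : ∀ u c : Fin n, act r (ee F c) u = (r : Matrix (Fin n) (Fin n) F) u c := fun u c => (entry_eq r u c).symm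
  have hneg : ∀ u c : Fin n, act r (-ee F c) u = - (r : Matrix (Fin n) (Fin n) F) u c := fun u c => by
    rw [← hre]
    have : act r (-ee F c) = - act r (ee F c) := by
      have h := act_smul r (-1) (ee F c)
      simpa using h
    rw [this]; rfl
  by_cases ht : t = a
  · rw [if_pos ht] at hme
    rw [hme] at g1 g2 g3 ⊢
    by_cases hs : s = a
    · subst hs
      rw [g1, hneg, hneg, hr b b le_rfl, ht]; simp
    · by_cases hs' : s = b
      · subst hs'
        rw [g2, hneg, hneg, hrab, ht, if_neg hne.symm]; simp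
      · rw [g3 s hs hs', hneg]
        have h4 : (s : ℕ) ≠ a := fun h => hs (Fin.ext h)
        have h5 : (s : ℕ) ≠ b := fun h => hs' (Fin.ext h)
        have h6 : (t : ℕ) = a := by rw [ht]
        rw [hr s b (by rw [Fin.le_def]; omega), if_neg hs', if_neg (by rw [ht]; exact hs), neg_zero]
  · rw [if_neg ht] at hme
    by_cases ht' : t = b
    · rw [if_pos ht'] at hme
      rw [hme] at g1 g2 g3 ⊢
      by_cases hs : s = a
      · exfalso
        have h4 : (s : ℕ) = a := by rw [hs]
        have h5 : (t : ℕ) = b := by rw [ht']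
        omega
      · by_cases hs' : s = b
        · subst hs'
          rw [g2, hre, hre, hr a a le_rfl, ht']; simp
        · rw [g3 s hs hs', hre]
          have h5 : (s : ℕ) ≠ b := fun h => hs' (Fin.ext h)
          have h6 : (t : ℕ) = b := by rw [ht']
          rw [hr s a (by rw [Fin.le_def]; omega), if_neg hs, if_neg (by rw [ht']; exact hs')]
    · rw [if_neg ht'] at hme
      rw [hme] at g1 g2 g3 ⊢
      have h4 : (t : ℕ) ≠ a := fun h => ht (Fin.ext h)
      have h5 : (t : ℕ) ≠ b := fun h => ht' (Fin.ext h)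
      by_cases hs : s = a
      · subst hs
        rw [g1, hre, hre, hr b t (by rw [Fin.le_def]; omega), if_neg (Ne.symm ht'), if_neg (Ne.symm ht)]; simp
      · by_cases hs' : s = b
        · subst hs'
          rw [g2, hre, hre, hr a t (by rw [Fin.le_def]; omega), if_neg (Ne.symm ht'), if_neg (Ne.symm ht)]; simp
        · rw [g3 s hs hs', hre, hr s t hts]

theorem inv_aux [Finite F] {a b : Fin n} (hab : (a : ℕ) + 1 = b) (hne : a ≠ b) {u : SL} (hu : u ∈ UU F n) (c : F) :
    (mmm hne)⁻¹ * (xx hne (c + (u : Matrix (Fin n) (Fin n) F) a b))⁻¹ * u * xx hne c * mmm hne ∈ UU F n := by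
  have hlt : a < b := by rw [Fin.lt_def]; omega
  set d := (u : Matrix (Fin n) (Fin n) F) a b with hd
  have h1 : (xx hne (c + d))⁻¹ * u * xx hne c ∈ UU F n :=
    mul_mem (mul_mem (inv_mem (xx_mem hlt _)) hu) (xx_mem hlt _)
  have h2 : (((xx hne (c + d))⁻¹ * u * xx hne c : SL) : Matrix (Fin n) (Fin n) F) a b = 0 := by
    rw [entry_eq, act_mul, act_mul, xx_inv, act_xx, if_pos rfl]
    have h3 : act (xx hne c) (ee F b) = ee F b + c • ee F a := by
      ext s
      rw [act_xx, ee_same, mul_one]
      by_cases hs : s = a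
      · subst hs; simp
      · simp [hs]
    rw [h3, act_add, act_smul]
    simp only [Pi.add_apply, Pi.smul_apply, smul_eq_mul]
    rw [← entry_eq, ← entry_eq, ← entry_eq, ← entry_eq, hu a a le_rfl, hu b b le_rfl,
      hu b a (by rw [Fin.le_def]; omega), if_pos rfl, if_pos rfl, if_neg hne.symm, ← hd]
    ring
  have h3 := m_U_m hab hne h1 h2
  have h4 : (mmm hne)⁻¹ * (xx hne (c + d))⁻¹ * u * xx hne c * mmm hne =
      (mmm hne)⁻¹ * ((xx hne (c + d))⁻¹ * u * xx hne c) * (mmm hne : SL) := by group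
  rw [h4]
  exact h3

/-! ### The longest element -/

/-- There is an element of `SL_n` which is nonzero exactly on the antidiagonal. -/
theorem exists_n0 (F : Type*) [Field F] (n : ℕ) : ∃ (w : Matrix.SpecialLinearGroup (Fin n) F) (d : Fin n → F),
    (∀ i, d i ≠ 0) ∧ ∀ i, act w (ee F i) = d i • ee F (Fin.rev i) := by
  classical
  -- the permutation matrix of `Fin.rev` scaled in the first column
  let P : Matrix (Fin n) (Fin n) F := (Fin.revPerm : Equiv.Perm (Fin n)).permMatrix F
  have hdetP : P.det = ((Equiv.Perm.sign (Fin.revPerm : Equiv.Perm (Fin n)) : ℤ) : F) := by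
    simp [P, Matrix.det_permutation]
  set s : F := ((Equiv.Perm.sign (Fin.revPerm : Equiv.Perm (Fin n)) : ℤ) : F) with hs
  have hss : s * s = 1 := by
    rw [hs]
    rcases Int.units_eq_one_or (Equiv.Perm.sign (Fin.revPerm : Equiv.Perm (Fin n))) with h | h <;> rw [h] <;> simp
  rcases Nat.eq_zero_or_pos n with h0 | h0
  · subst h0
    exact ⟨1, fun i => i.elim0, fun i => i.elim0, fun i => i.elim0⟩
  let d : Fin n → F := fun i => if i = ⟨0, h0⟩ then s else 1
  have hdet : (P * Matrix.diagonal d).det = 1 := by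
    rw [Matrix.det_mul, hdetP, Matrix.det_diagonal, Finset.prod_ite_eq' Finset.univ (⟨0, h0⟩ : Fin n)]
    simp [hss]
  have hs0 : s ≠ 0 := fun h => by rw [h, mul_zero] at hss; exact zero_ne_one hss
  refine ⟨⟨P * Matrix.diagonal d, hdet⟩, d, fun i => ?_, fun i => ?_⟩
  · by_cases hi : i = ⟨0, h0⟩
    · simp only [d, if_pos hi]; exact hs0
    · simp only [d, if_neg hi]; exact one_ne_zero
  · show (P * Matrix.diagonal d) *ᵥ (Pi.single i 1) = _
    rw [← Matrix.mulVec_mulVec]
    have h1 : Matrix.diagonal d *ᵥ (Pi.single i 1) = d i • (Pi.single i 1 : Fin n → F) := by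
      ext j
      rw [Matrix.mulVec_diagonal]
      by_cases hj : j = i
      · subst hj; simp
      · simp [hj]
    rw [h1, Matrix.mulVec_smul]
    congr 1
    ext j
    simp only [P, Matrix.mulVec_single_one, Matrix.col_apply, Equiv.Perm.permMatrix]
    rw [PEquiv.toMatrix_apply]
    simp only [Equiv.toPEquiv_apply, Option.mem_def, Option.some.injEq, Fin.revPerm_apply, Pi.single_apply]
    have : (Fin.rev j = i) ↔ (j = Fin.rev i) := by
      constructor
      · rintro rfl; simp
      · rintro rfl; simp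
    simp only [this]

section n0

variable {w : Matrix.SpecialLinearGroup (Fin n) F} {d : Fin n → F}

theorem act_n0 (hw : ∀ i, act w (ee F i) = d i • ee F (Fin.rev i)) (v : Fin n → F) (s : Fin n) :
    act w v s = d (Fin.rev s) * v (Fin.rev s) := by
  rw [act_eq_sum, Finset.sum_eq_single (Fin.rev s)]
  · rw [entry_eq, hw]
    simp
  · intro b _ hb
    rw [entry_eq, hw]
    have : s ≠ Fin.rev b := by rintro rfl; simp at hb
    simp [this]
  · intro h; exact absurd (Finset.mem_univ _) h

theorem m_x_m {a b : Fin n} (hab : a ≠ b) (c : F) : (mmm hab)⁻¹ * xx hab c * mmm hab = xx (Ne.symm hab) (-c) := by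
  refine (((isTwo_mmm_inv hab).mul (isTwo_xx hab c)).mul (isTwo_mmm hab)).unique (isTwo_yy hab (-c)) ?_
  simp

theorem conj_n0 [Finite F] (hd : ∀ i, d i ≠ 0) (hw : ∀ i, act w (ee F i) = d i • ee F (Fin.rev i)) {a b : Fin n}
    (hab : a < b) (c : F) : (w * (mmm hab.ne)⁻¹) * xx hab.ne c * (w * (mmm hab.ne)⁻¹)⁻¹ ∈ UU F n := by
  have hrev : Fin.rev b < Fin.rev a := by rwa [Fin.rev_lt_rev]
  have h1 : (w * (mmm hab.ne)⁻¹) * xx hab.ne c * (w * (mmm hab.ne)⁻¹)⁻¹ =
      w * ((mmm hab.ne)⁻¹ * xx hab.ne c * mmm hab.ne) * w⁻¹ := by group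
  have h2 : w * xx (Ne.symm hab.ne) (-c) * w⁻¹ = xx hrev.ne (d b * (-c) * (d a)⁻¹) := by
    rw [mul_inv_eq_iff_eq_mul]
    apply ext_act
    intro v
    ext s
    rw [act_mul, act_mul, act_n0 hw, act_xx, act_xx, act_n0 hw, act_n0 hw]
    by_cases hs : s = Fin.rev b
    · subst hs
      rw [Fin.rev_rev, if_pos rfl, if_pos rfl, Fin.rev_rev]
      have := hd a
      field_simp
    · rw [if_neg hs, if_neg, add_zero, add_zero]
      rintro rfl
      simp at hs
  rw [h1, m_x_m, h2]
  exact xx_mem hrev _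

end n0

/-! ### Flags -/

/-- extension by zero of a vector of length `i` -/
def ext0 (n i : ℕ) (v : Fin i → F) : Fin n → F := fun s => if h : (s : ℕ) < i then v ⟨s, h⟩ else 0

theorem ext0_add (i : ℕ) (v w : Fin i → F) : ext0 n i (v + w) = ext0 n i v + ext0 n i w := by
  ext s
  unfold ext0
  by_cases h : (s : ℕ) < i
  · simp [h]
  · simp [h]

theorem ext0_smul (i : ℕ) (c : F) (v : Fin i → F) : ext0 n i (c • v) = c • ext0 n i v := by
  ext s
  unfold ext0
  by_cases h : (s : ℕ) < i
  · simp [h]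
  · simp [h]

theorem ext0_of_le {i : ℕ} (v : Fin i → F) {s : Fin n} (h : i ≤ s) : ext0 n i v s = 0 := by
  unfold ext0
  rw [dif_neg (not_lt.2 h)]

theorem ext0_eq_zero {i : ℕ} (hi : i ≤ n) {v : Fin i → F} (h : ext0 n i v = 0) : v = 0 := by
  ext s
  have := congrFun h ⟨s, s.2.trans_le hi⟩
  unfold ext0 at this
  simpa using this

theorem exists_ext0 {i : ℕ} (hi : i ≤ n) {v : Fin n → F} (h : ∀ s : Fin n, i ≤ s → v s = 0) :
    ∃ v' : Fin i → F, v = ext0 n i v' := by
  refine ⟨fun s => v ⟨s, s.2.trans_le hi⟩, ?_⟩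
  ext s
  unfold ext0
  by_cases hs : (s : ℕ) < i
  · rw [dif_pos hs]
  · rw [dif_neg hs, h s (not_lt.1 hs)]

/-- `(v, w) ↦ v - g w`. -/
def phi (g : Matrix.SpecialLinearGroup (Fin n) F) (i j : ℕ) : ((Fin i → F) × (Fin j → F)) →ₗ[F] (Fin n → F) where
  toFun vw := ext0 n i vw.1 - act g (ext0 n j vw.2)
  map_add' x y := by
    simp only [Prod.fst_add, Prod.snd_add, ext0_add, act_add]; abel
  map_smul' c x := by
    simp only [Prod.smul_fst, Prod.smul_snd, ext0_smul, act_smul, RingHom.id_apply, smul_sub]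

/-- Nonzero kernel gives a nonzero common vector. -/
theorem exists_common {g : SL} {i j : ℕ} (hi : i ≤ n) (hj : j ≤ n) (h : ¬ Function.Injective (phi (F := F) g i j)) :
    ∃ l : Fin n → F, l ≠ 0 ∧ (∀ s : Fin n, i ≤ s → l s = 0) ∧ ∀ s : Fin n, j ≤ s → act g⁻¹ l s = 0 := by
  rw [← LinearMap.ker_eq_bot, Submodule.eq_bot_iff] at h
  push Not at h
  obtain ⟨⟨v, w⟩, hvw, hne⟩ := h
  have h1 : ext0 n i v = act g (ext0 n j w) := sub_eq_zero.1 (LinearMap.mem_ker.1 hvw)
  refine ⟨ext0 n i v, ?_, fun s hs => ext0_of_le v hs, fun s hs => ?_⟩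
  · intro h0
    have hv : v = 0 := ext0_eq_zero hi h0
    rw [h0] at h1
    have h2 : ext0 n j w = 0 := by rw [← act_inv_act g (ext0 n j w), ← h1, act_zero]
    have hw : w = 0 := ext0_eq_zero hj h2
    exact hne (by rw [hv, hw]; rfl)
  · rw [h1, act_inv_act]
    exact ext0_of_le w hs

/-- Non-opposite flags: a common transvection. -/
theorem exists_transvection_mem [Finite F] (g : SL) {i : ℕ} (hi : i ≤ n)
    (h : ¬ Function.Injective (phi (F := F) g i (n - i))) : ∃ x ∈ UU F n, x ≠ 1 ∧ g⁻¹ * x * g ∈ UU F n := by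
  obtain ⟨l, hl0, hl, hl'⟩ := exists_common hi (Nat.sub_le _ _) h
  have hfin : Module.finrank F ((Fin i → F) × (Fin (n - i) → F)) = Module.finrank F (Fin n → F) := by
    rw [Module.finrank_prod, Module.finrank_fin_fun, Module.finrank_fin_fun, Module.finrank_fin_fun]
    omega
  have hsurj : ¬ Function.Surjective (phi (F := F) g i (n - i)) := fun hs =>
    h ((LinearMap.injective_iff_surjective_of_finrank_eq_finrank hfin).2 hs)
  have hlt : LinearMap.range (phi (F := F) g i (n - i)) < ⊤ :=
    lt_top_iff_ne_top.2 fun h => hsurj (LinearMap.range_eq_top.1 h)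
  obtain ⟨f, hf0, hf⟩ := Submodule.exists_le_ker_of_lt_top _ hlt
  have hf1 : ∀ v : Fin n → F, (∀ s : Fin n, i ≤ s → v s = 0) → f v = 0 := by
    intro v hv
    obtain ⟨v', rfl⟩ := exists_ext0 hi hv
    refine hf ⟨(v', 0), ?_⟩
    show ext0 n i v' - act g (ext0 n (n - i) 0) = _
    have : ext0 n (n - i) (0 : Fin (n - i) → F) = 0 := by
      ext s; unfold ext0; split_ifs <;> rfl
    rw [this, act_zero, sub_zero]
  have hf2 : ∀ v : Fin n → F, (∀ s : Fin n, n - i ≤ s → v s = 0) → f (act g v) = 0 := by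
    intro v hv
    obtain ⟨v', rfl⟩ := exists_ext0 (Nat.sub_le _ _) hv
    have h3 : f (- act g (ext0 n (n - i) v')) = 0 := by
      refine hf ⟨(0, v'), ?_⟩
      show ext0 n i 0 - act g (ext0 n (n - i) v') = _
      have : ext0 n i (0 : Fin i → F) = 0 := by
        ext s; unfold ext0; split_ifs <;> rfl
      rw [this, zero_sub]
    rwa [map_neg, neg_eq_zero] at h3
  -- the transvection
  let fv : Fin n → F := fun b => f (ee F b)
  have hfv : ∀ v, fv ⬝ᵥ v = f v := by
    intro v
    have h1 : v = ∑ b, v b • ee F b := by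
      ext s
      simp [Finset.sum_apply, Pi.single_apply]
    conv_rhs => rw [h1, map_sum]
    simp only [dotProduct, map_smul, smul_eq_mul, fv]
    exact Finset.sum_congr rfl fun b _ => mul_comm _ _
  have hdet : (1 + Matrix.vecMulVec l fv).det = 1 := by
    rw [Matrix.vecMulVec_eq (Fin 1), Matrix.det_one_add_replicateCol_mul_replicateRow, hfv, hf1 l hl, add_zero]
  set x : SL := ⟨1 + Matrix.vecMulVec l fv, hdet⟩ with hx
  have hact : ∀ v, act x v = v + (f v) • l := by
    intro v
    show (1 + Matrix.vecMulVec l fv) *ᵥ v = _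
    rw [Matrix.add_mulVec, Matrix.one_mulVec, Matrix.vecMulVec_mulVec, hfv]
    congr 1
    ext s
    simp [mul_comm]
  refine ⟨x, ?_, ?_, ?_⟩
  · rw [mem_UU']
    intro s t hts
    rw [hact, Pi.add_apply, ee_apply, Pi.smul_apply, smul_eq_mul]
    have : f (ee F t) * l s = 0 := by
      by_cases hs : i ≤ s
      · rw [hl s hs, mul_zero]
      · rw [hf1, zero_mul]
        intro r hr
        apply ee_ne
        rintro rfl
        have : (r : ℕ) ≤ s := hts
        omega
    rw [this, add_zero]
  · intro h1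
    apply hf0
    apply LinearMap.ext
    intro v
    have h2 := hact v
    rw [h1, act_one, left_eq_add] at h2
    rcases smul_eq_zero.1 h2 with h3 | h3
    · exact h3
    · exact absurd h3 hl0
  · rw [mem_UU']
    intro s t hts
    rw [act_mul, act_mul, hact, act_add, act_smul, act_inv_act, Pi.add_apply, ee_apply, Pi.smul_apply, smul_eq_mul]
    have : f (act g (ee F t)) * act g⁻¹ l s = 0 := by
      by_cases hs : n - i ≤ s
      · rw [hl' s hs, mul_zero]
      · rw [hf2, zero_mul]
        intro r hr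
        apply ee_ne
        rintro rfl
        have : (r : ℕ) ≤ s := hts
        omega
    rw [this, add_zero]

/-- Opposite flags: the big cell. -/
theorem cell [Finite F] {w : Matrix.SpecialLinearGroup (Fin n) F} {d : Fin n → F} (hd : ∀ i, d i ≠ 0)
    (hw : ∀ i, act w (ee F i) = d i • ee F (Fin.rev i)) (g : SL) :
    (∃ x ∈ UU F n, x ≠ 1 ∧ g⁻¹ * x * g ∈ UU F n) ∨
      ∃ u ∈ UU F n, ∃ t ∈ TT F n, ∃ u' ∈ UU F n, g = u * w * t * u' := by
  classical
  by_cases hinj : ∀ i, i ≤ n → Function.Injective (phi (F := F) g i (n - i))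
  · right
    -- the vectors `l i`
    have hl : ∀ i : Fin n, ∃ l : Fin n → F, l i = 1 ∧ (∀ s : Fin n, i < s → l s = 0) ∧
        ∀ s : Fin n, n - i ≤ s → act g⁻¹ l s = 0 := by
      intro i
      have hfin : ¬ Function.Injective (phi (F := F) g (i + 1) (n - i)) := by
        intro h
        have := LinearMap.finrank_le_finrank_of_injective h
        rw [Module.finrank_prod, Module.finrank_fin_fun, Module.finrank_fin_fun, Module.finrank_fin_fun] at this
        have := i.2
        omega
      obtain ⟨l, hl0, hl1, hl2⟩ := exists_common (by have := i.2; omega) (Nat.sub_le _ _) hfin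
      have hli : l i ≠ 0 := by
        intro h
        have h1 : ∀ s : Fin n, (i : ℕ) ≤ s → l s = 0 := by
          intro s hs
          by_cases h2 : s = i
          · rw [h2, h]
          · exact hl1 s (by have : (s : ℕ) ≠ i := fun h => h2 (Fin.ext h); omega)
        obtain ⟨v, hv⟩ := exists_ext0 i.2.le h1
        obtain ⟨v', hv'⟩ := exists_ext0 (Nat.sub_le n i) hl2
        have h3 : phi g i (n - i) (v, v') = phi g i (n - i) 0 := by
          show ext0 n i v - act g (ext0 n (n - i) v') = _
          rw [map_zero, ← hv, ← hv', act_act_inv, sub_self]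
        have h4 := hinj i i.2.le h3
        apply hl0
        rw [hv, (Prod.mk.inj h4).1]
        ext s; unfold ext0; split_ifs <;> rfl
      refine ⟨(l i)⁻¹ • l, ?_, fun s hs => ?_, fun s hs => ?_⟩
      · rw [Pi.smul_apply, smul_eq_mul, inv_mul_cancel₀ hli]
      · rw [Pi.smul_apply, hl1 s (by rw [Fin.lt_def] at hs; omega), smul_zero]
      · rw [act_smul, Pi.smul_apply, hl2 s hs, smul_zero]
    choose l hl1 hl2 hl3 using hl
    -- the matrix with columns `l i`
    let A : Matrix (Fin n) (Fin n) F := Matrix.of fun s i => l i s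
    have hA : A.IsUpperTriangular := fun s i h => hl2 i s h
    have hdetA : A.det = 1 := by
      rw [Matrix.det_of_isUpperTriangular hA]
      exact Finset.prod_eq_one fun i _ => hl1 i
    set u : SL := ⟨A, hdetA⟩ with hu
    have hact : ∀ i, act u (ee F i) = l i := by
      intro i
      ext s
      rw [← entry_eq]
      rfl
    have huU : u ∈ UU F n := by
      rw [mem_UU']
      intro s i his
      rw [hact]
      rcases his.lt_or_eq with h | h
      · rw [hl2 i s h, if_neg h.ne']
      · subst h; rw [hl1, if_pos rfl]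
    -- `b = g⁻¹ u w` is upper triangular
    set b : SL := g⁻¹ * u * w with hb
    have hbt : ∀ s i : Fin n, i < s → (b : Matrix (Fin n) (Fin n) F) s i = 0 := by
      intro s i his
      rw [entry_eq, hb, act_mul, act_mul, hw, act_smul, act_smul, Pi.smul_apply, hact, hl3, smul_zero]
      rw [Fin.val_rev]
      rw [Fin.lt_def] at his
      have := s.2
      have := i.2
      omega
    let Bm : Submonoid SL :=
      { carrier := {g | ∀ s i : Fin n, i < s → (g : Matrix (Fin n) (Fin n) F) s i = 0}
        one_mem' := fun s i his => by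
          rw [Matrix.SpecialLinearGroup.coe_one, Matrix.one_apply, if_neg his.ne']
        mul_mem' := by
          intro g h hg hh s i his
          rw [Matrix.SpecialLinearGroup.coe_mul, Matrix.mul_apply]
          refine Finset.sum_eq_zero fun c _ => ?_
          by_cases h1 : c < s
          · rw [hg s c h1, zero_mul]
          · rw [hh c i (his.trans_le (not_lt.1 h1)), mul_zero] }
    have hbinv : b⁻¹ ∈ Bm := inv_mem_of_finite Bm hbt
    set b' := b⁻¹ with hb'
    have hb't : (b' : Matrix (Fin n) (Fin n) F).IsUpperTriangular := fun s i h => hbinv s i h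
    have hprod : ∏ i, (b' : Matrix (Fin n) (Fin n) F) i i = 1 := by
      rw [← Matrix.det_of_isUpperTriangular hb't]
      exact b'.2
    have hbne : ∀ i, (b' : Matrix (Fin n) (Fin n) F) i i ≠ 0 := by
      intro i h
      have h0 : ∏ j, (b' : Matrix (Fin n) (Fin n) F) j j = 0 := Finset.prod_eq_zero (Finset.mem_univ i) h
      rw [h0] at hprod
      exact zero_ne_one hprod
    set t : SL := ⟨Matrix.diagonal fun i => (b' : Matrix (Fin n) (Fin n) F) i i, by
      rw [Matrix.det_diagonal, hprod]⟩ with ht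
    have htT : t ∈ TT F n := by
      intro a c hac
      show Matrix.diagonal _ a c = 0
      rw [Matrix.diagonal_apply_ne _ hac]
    refine ⟨u, huU, t, htT, t⁻¹ * b', ?_, ?_⟩
    · rw [mem_UU']
      intro s i his
      have h1 : t * (t⁻¹ * b') = b' := by group
      have h2 := congrFun (congrArg (fun g : SL => act g (ee F i)) h1) s
      simp only [act_mul] at h2
      rw [act_TT htT, ← act_mul, ← entry_eq b'] at h2
      have h3 : (t : Matrix (Fin n) (Fin n) F) s s = (b' : Matrix (Fin n) (Fin n) F) s s := by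
        show Matrix.diagonal _ s s = _
        rw [Matrix.diagonal_apply_eq]
      rw [h3] at h2
      rcases his.lt_or_eq with h | h
      · rw [hbinv s i h] at h2
        rw [if_neg h.ne']
        rcases mul_eq_zero.1 h2 with h4 | h4
        · exact absurd h4 (hbne s)
        · exact h4
      · subst h
        rw [if_pos rfl]
        exact mul_left_cancel₀ (hbne i) (by rw [h2, mul_one])
    · rw [hb', hb]; group
  · left
    push Not at hinj
    obtain ⟨i, hi, h⟩ := hinj
    exact exists_transvection_mem g hi h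

/-! ### Assembly -/

/-- The longest element. -/
noncomputable def w0 (F : Type*) [Field F] (n : ℕ) : Matrix.SpecialLinearGroup (Fin n) F := (exists_n0 F n).choose

/-- Its coefficients. -/
noncomputable def d0 (F : Type*) [Field F] (n : ℕ) : Fin n → F := (exists_n0 F n).choose_spec.choose

theorem d0_ne (i : Fin n) : d0 F n i ≠ 0 := (exists_n0 F n).choose_spec.choose_spec.1 i

theorem act_w0 (i : Fin n) : act (w0 F n) (ee F i) = d0 F n i • ee F (Fin.rev i) :=
  (exists_n0 F n).choose_spec.choose_spec.2 i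

/-- The data of `SL_n(F)`. -/
noncomputable def data (F : Type*) [Field F] [Finite F] (n p : ℕ) [Fact p.Prime] [CharP F p] :
    BruData (Matrix.SpecialLinearGroup (Fin n) F) p where
  U := UU F n
  T := TT F n
  n0 := w0 F n
  pU := isPGroup_UU p
  TU := fun t ht u hu => TT_UU ht hu
  cell := fun g => cell d0_ne act_w0 g

/-- adjacent indices -/
def ia (i : {i : ℕ // i + 1 < n}) : Fin n := ⟨i.1, by omega⟩

/-- adjacent indices -/
def ib (i : {i : ℕ // i + 1 < n}) : Fin n := ⟨i.1 + 1, i.2⟩

theorem ia_lt (i : {i : ℕ // i + 1 < n}) : ia i < ib i := by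
  rw [Fin.lt_def]; exact Nat.lt_succ_self _

/-- The roots of `SL_n(F)`. -/
noncomputable def root (F : Type*) [Field F] [Finite F] (n p : ℕ) [Fact p.Prime] [CharP F p]
    (i : {i : ℕ // i + 1 < n}) : Root (data F n p) F where
  x := xx (ia_lt i).ne
  h := hhh (ia_lt i).ne
  m := mmm (ia_lt i).ne
  x_inj := xx_injective _
  x_add := xx_add _
  h_mem := hhh_mem _
  h_mul := hhh_mul _
  mm := by
    refine mem_TT_of_act (d := fun s => if s = ia i then (-1 : F) else if s = ib i then -1 else 1) ?_
    intro v s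
    obtain ⟨h1, h2, h3⟩ := ((isTwo_mmm (F := F) (ia_lt i).ne).mul (isTwo_mmm (ia_lt i).ne)) v
    by_cases hs : s = ia i
    · rw [hs, h1]; simp
    · by_cases hs' : s = ib i
      · rw [hs', h2]; simp [(ia_lt i).ne']
      · rw [h3 s hs hs']; simp [hs, hs']
  rel := rel_eq _
  x_mem := fun a => xx_mem (ia_lt i) a
  T_m := fun t ht => m_T_m _ ht
  T_x := fun t ht => by
    refine ⟨Equiv.mulLeft₀ ((t : Matrix (Fin n) (Fin n) F) (ia i) (ia i) *
      ((t : Matrix (Fin n) (Fin n) F) (ib i) (ib i))⁻¹)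
      (mul_ne_zero (diag_ne_zero ht _) (inv_ne_zero (diag_ne_zero ht _))), fun a => ?_⟩
    rw [T_xx _ ht]
    rfl
  T_comm := fun t ht s hs => TT_comm ht hs
  inv := fun u hu => ⟨_, fun a => inv_aux rfl (ia_lt i).ne hu a⟩
  conj := fun a => conj_n0 d0_ne act_w0 (ia_lt i) a

/-- The torus is generated by the `SL₂`-tori. -/
theorem T_le [Finite F] (p : ℕ) [Fact p.Prime] [CharP F p] :
    (data F n p).T ≤ Subgroup.closure {t | ∃ i a, t = (root F n p i).h a} := by
  intro t ht
  have ht' : t ∈ TT F n := ht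
  set S := Subgroup.closure {t | ∃ i a, t = (root F n p i).h a} with hS
  -- downward induction on the number of leading ones
  have key : ∀ k : ℕ, ∀ t ∈ TT F n, (∀ s : Fin n, (s : ℕ) + k + 1 < n → (t : Matrix (Fin n) (Fin n) F) s s = 1) →
      t ∈ S := by
    intro k
    induction k with
    | zero =>
      intro t ht h
      have hdet : ∏ s, (t : Matrix (Fin n) (Fin n) F) s s = 1 := by
        have h1 : (t : Matrix (Fin n) (Fin n) F) = Matrix.diagonal fun s => (t : Matrix (Fin n) (Fin n) F) s s := by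
          ext a b
          by_cases hab : a = b
          · subst hab; rw [Matrix.diagonal_apply_eq]
          · rw [Matrix.diagonal_apply_ne _ hab, ht a b hab]
        have h2 := t.2
        rw [h1, Matrix.det_diagonal] at h2
        exact h2
      have h1 : t = 1 := by
        apply ext_act
        intro v
        ext s
        rw [act_TT ht, act_one]
        suffices h : (t : Matrix (Fin n) (Fin n) F) s s = 1 by rw [h, one_mul]
        by_cases hs : (s : ℕ) + 0 + 1 < n
        · exact h s hs
        · rw [Finset.prod_eq_single s] at hdet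
          · exact hdet
          · intro b _ hb
            apply h
            have h1 : (b : ℕ) ≠ s := fun h => hb (Fin.ext h)
            have := b.2
            have := s.2
            omega
          · intro h; exact absurd (Finset.mem_univ _) h
      rw [h1]
      exact one_mem _
    | succ k ih =>
      intro t ht h
      by_cases hk : k + 1 < n
      · -- the index `n - k - 2`
        let i : {i : ℕ // i + 1 < n} := ⟨n - (k + 2), by omega⟩
        set c : F := (t : Matrix (Fin n) (Fin n) F) (ia i) (ia i) with hc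
        have hc0 : c ≠ 0 := diag_ne_zero ht _
        let g : SL := hhh (ia_lt i).ne (Units.mk0 c hc0)
        have hgT : g ∈ TT F n := hhh_mem _ _
        have hg : g ∈ S := Subgroup.subset_closure ⟨i, Units.mk0 c hc0, rfl⟩
        have h1 : g⁻¹ * t ∈ S := by
          refine ih _ (mul_mem (inv_mem hgT) ht) ?_
          intro s hs
          have h2 : g * (g⁻¹ * t) = t := by group
          have h3 := congrFun (congrArg (fun g : SL => act g (ee F s)) h2) s
          simp only [act_mul] at h3
          rw [act_TT hgT, ← act_mul, ← entry_eq, ← entry_eq] at h3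
          have hgs : ∀ s : Fin n, (g : Matrix (Fin n) (Fin n) F) s s = act g (ee F s) s := fun s => entry_eq g s s
          obtain ⟨g1, g2, g3⟩ := isTwo_hhh (ia_lt i).ne (Units.mk0 c hc0) (ee F s)
          by_cases hsi : s = ia i
          · subst hsi
            have h4 : (g : Matrix (Fin n) (Fin n) F) (ia i) (ia i) = c := by
              rw [hgs]
              refine g1.trans ?_
              simp [ee_ne (ia_lt i).ne']
            rw [h4, ← hc] at h3
            exact mul_left_cancel₀ hc0 (by rw [h3, mul_one])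
          · have hsb : s ≠ ib i := by
              rintro rfl
              have : ((ib i : Fin n) : ℕ) = n - (k + 2) + 1 := rfl
              omega
            have h4 : (g : Matrix (Fin n) (Fin n) F) s s = 1 := by
              rw [hgs, g3 s hsi hsb, ee_same]
            have h5 : (s : ℕ) ≠ n - (k + 2) := fun h => hsi (Fin.ext h)
            rw [h4, one_mul, h s (by omega)] at h3
            exact h3
        have h2 : g * (g⁻¹ * t) = t := by group
        rw [← h2]
        exact mul_mem hg h1
      · exact ih t ht fun s hs => by omega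
  exact key n t ht' fun s hs => by omega

end Cfsg.Agent.H615.SLBru
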