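import Mathlib
import Cfsg.Agent.Lib.PGroupFixedVector

/-!
# Radical `p`-subgroups of `SL_n(F)` in the defining characteristic

`D` a nontrivial `p`-subgroup of `SL_n(F)`, `F` a finite field of characteristic `p`, which contains every
`p`-subgroup of its normaliser that is normalised by it (`D = O_p(N(D))`). Then every element of order prime to
`p` commuting with `D` is scalar: `mem_center_of_commute`.
-/

set_option autoImplicit false

namespace Cfsg.Agent.H615.SLRad

open Matrix

variable {F : Type*} [Field F] {n : ℕ}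

local notation "SL" => Matrix.SpecialLinearGroup (Fin n) F

/-- The action of `SL_n(F)` on column vectors. -/
def act (g : Matrix.SpecialLinearGroup (Fin n) F) (v : Fin n → F) : Fin n → F :=
  (g : Matrix (Fin n) (Fin n) F) *ᵥ v

theorem act_mul (g h : SL) (v : Fin n → F) : act (g * h) v = act g (act h v) := by
  simp [act, Matrix.mulVec_mulVec]

theorem act_one (v : Fin n → F) : act (1 : SL) v = v := by
  simp [act]

theorem act_add (g : SL) (v w : Fin n → F) : act g (v + w) = act g v + act g w := by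
  simp [act, Matrix.mulVec_add]

theorem act_sub (g : SL) (v w : Fin n → F) : act g (v - w) = act g v - act g w := by
  simp [act, Matrix.mulVec_sub]

theorem act_smul (g : SL) (c : F) (v : Fin n → F) : act g (c • v) = c • act g v := by
  simp [act, Matrix.mulVec_smul]

theorem act_zero (g : SL) : act g (0 : Fin n → F) = 0 := by
  simp [act]

theorem act_inv_act (g : SL) (v : Fin n → F) : act g⁻¹ (act g v) = v := by
  rw [← act_mul, inv_mul_cancel, act_one]

theorem act_act_inv (g : SL) (v : Fin n → F) : act g (act g⁻¹ v) = v := by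
  rw [← act_mul, mul_inv_cancel, act_one]

theorem ext_act {g h : SL} (H : ∀ v, act g v = act h v) : g = h := by
  apply Matrix.SpecialLinearGroup.ext
  intro i j
  have := congrFun (H (Pi.single j 1)) i
  simpa [act] using this

/-- The action as a representation. -/
def rep (F : Type*) [Field F] (n : ℕ) : Representation F (Matrix.SpecialLinearGroup (Fin n) F) (Fin n → F) where
  toFun g :=
    { toFun := act g
      map_add' := act_add g
      map_smul' := act_smul g }
  map_one' := by
    ext v : 2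
    simp [act_one]
  map_mul' g h := LinearMap.ext fun v => act_mul g h v

theorem rep_apply (g : SL) (v : Fin n → F) : rep F n g v = act g v := rfl

/-- The transposed (dual) action as a representation. -/
def dualRep (F : Type*) [Field F] (n : ℕ) : Representation F (Matrix.SpecialLinearGroup (Fin n) F) (Fin n → F) where
  toFun g :=
    { toFun := fun f => f ᵥ* ((g⁻¹ : Matrix.SpecialLinearGroup (Fin n) F) : Matrix (Fin n) (Fin n) F)
      map_add' := fun f f' => Matrix.add_vecMul _ _ _
      map_smul' := fun c f => by simp [Matrix.smul_vecMul] }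
  map_one' := by
    ext v : 2
    simp
  map_mul' g h := LinearMap.ext fun v => by
    show v ᵥ* (((g * h)⁻¹ : Matrix.SpecialLinearGroup (Fin n) F) : Matrix (Fin n) (Fin n) F) =
      (v ᵥ* ((h⁻¹ : Matrix.SpecialLinearGroup (Fin n) F) : Matrix (Fin n) (Fin n) F)) ᵥ*
        ((g⁻¹ : Matrix.SpecialLinearGroup (Fin n) F) : Matrix (Fin n) (Fin n) F)
    rw [Matrix.vecMul_vecMul, _root_.mul_inv_rev, Matrix.SpecialLinearGroup.coe_mul]

theorem dot_dualRep (g : SL) (f v : Fin n → F) : dualRep F n g f ⬝ᵥ v = f ⬝ᵥ act g⁻¹ v := by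
  show (f ᵥ* _) ⬝ᵥ v = f ⬝ᵥ (_ *ᵥ v)
  rw [Matrix.dotProduct_mulVec]

/-- The fixed space of `D`. -/
def fix (D : Subgroup (Matrix.SpecialLinearGroup (Fin n) F)) : Submodule F (Fin n → F) where
  carrier := {v | ∀ d ∈ D, act d v = v}
  add_mem' := fun {v w} hv hw d hd => by rw [act_add, hv d hd, hw d hd]
  zero_mem' := fun d _ => act_zero d
  smul_mem' := fun c v hv d hd => by rw [act_smul, hv d hd]

theorem mem_fix {D : Subgroup SL} {v : Fin n → F} : v ∈ fix D ↔ ∀ d ∈ D, act d v = v := Iff.rfl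

/-- The commutator space `[V, D]`. -/
def com (D : Subgroup (Matrix.SpecialLinearGroup (Fin n) F)) : Submodule F (Fin n → F) :=
  Submodule.span F {w | ∃ d ∈ D, ∃ v, w = act d v - v}

theorem sub_mem_com {D : Subgroup SL} {d : SL} (hd : d ∈ D) (v : Fin n → F) : act d v - v ∈ com D :=
  Submodule.subset_span ⟨d, hd, v, rfl⟩

theorem act_mem_fix {D : Subgroup SL} {g : SL} (hg : ∀ d ∈ D, g⁻¹ * d * g ∈ D) {v : Fin n → F}
    (hv : v ∈ fix D) : act g v ∈ fix D := by
  intro d hd
  have h := hv _ (hg d hd)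
  rw [← act_mul, show d * g = g * (g⁻¹ * d * g) by group, act_mul, h]

theorem act_mem_com {D : Subgroup SL} {g : SL} (hg : ∀ d ∈ D, g * d * g⁻¹ ∈ D) {v : Fin n → F}
    (hv : v ∈ com D) : act g v ∈ com D := by
  refine Submodule.span_induction (p := fun v _ => act g v ∈ com D) ?_ ?_ ?_ ?_ hv
  · rintro _ ⟨d, hd, w, rfl⟩
    have : act g (act d w - w) = act (g * d * g⁻¹) (act g w) - act g w := by
      rw [act_sub, act_mul, act_mul, act_inv_act]
    rw [this]
    exact sub_mem_com (hg d hd) _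
  · rw [act_zero]; exact zero_mem _
  · intro x y _ _ hx hy
    rw [act_add]; exact add_mem hx hy
  · intro c x _ hx
    rw [act_smul]; exact Submodule.smul_mem _ _ hx

/-- `W₁ = C_V(D) ∩ [V, D]`. -/
def W1 (D : Subgroup (Matrix.SpecialLinearGroup (Fin n) F)) : Submodule F (Fin n → F) := fix D ⊓ com D

/-- The group of the elements `1 + φ`, `φ : V / [V, D] → C_V(D) ∩ [V, D]`. -/
def AA (D : Subgroup (Matrix.SpecialLinearGroup (Fin n) F)) :
    Subgroup (Matrix.SpecialLinearGroup (Fin n) F) where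
  carrier := {a | (∀ v, act a v - v ∈ W1 D) ∧ ∀ v ∈ com D, act a v = v}
  mul_mem' := by
    rintro a b ⟨ha, ha'⟩ ⟨hb, hb'⟩
    refine ⟨fun v => ?_, fun v hv => ?_⟩
    · rw [act_mul, show act a (act b v) - v = (act a (act b v) - act b v) + (act b v - v) by abel]
      exact add_mem (ha _) (hb _)
    · rw [act_mul, hb' v hv, ha' v hv]
  one_mem' := ⟨fun v => by rw [act_one, sub_self]; exact zero_mem _, fun v _ => act_one v⟩
  inv_mem' := by
    rintro a ⟨ha, ha'⟩
    refine ⟨fun v => ?_, fun v hv => ?_⟩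
    · have h := ha (act a⁻¹ v)
      rw [act_act_inv] at h
      have := neg_mem h
      rwa [neg_sub] at this
    · conv_lhs => rw [← ha' v hv]
      rw [act_inv_act]

theorem mem_AA {D : Subgroup SL} {a : SL} :
    a ∈ AA D ↔ (∀ v, act a v - v ∈ W1 D) ∧ ∀ v ∈ com D, act a v = v := Iff.rfl

theorem act_pow_AA {D : Subgroup SL} {a : SL} (ha : a ∈ AA D) (k : ℕ) (v : Fin n → F) :
    act (a ^ k) v = v + (k : F) • (act a v - v) := by
  induction k with
  | zero => simp [act_one]
  | succ k ih =>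
    have h2 : act a (act a v - v) = act a v - v := ha.2 _ (ha.1 v).2
    rw [pow_succ', act_mul, ih, act_add, act_smul, h2]
    push_cast
    rw [add_smul, one_smul]
    abel

theorem isPGroup_AA (p : ℕ) [CharP F p] (D : Subgroup SL) : IsPGroup p (AA D) := by
  intro a
  refine ⟨1, ?_⟩
  apply Subtype.ext
  rw [pow_one]
  push_cast
  apply ext_act
  intro v
  rw [act_pow_AA a.2, CharP.cast_eq_zero, zero_smul, add_zero, act_one]

theorem commute_AA {D : Subgroup SL} {a d : SL} (ha : a ∈ AA D) (hd : d ∈ D) : a * d = d * a := by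
  apply ext_act
  intro v
  rw [act_mul, act_mul]
  have h1 : act a (act d v - v) = act d v - v := ha.2 _ (sub_mem_com hd v)
  have h2 : act d (act a v - v) = act a v - v := (ha.1 v).1 d hd
  rw [act_sub] at h1 h2
  have h3 : act a (act d v) = act d v - v + act a v := by rw [← h1]; abel
  have h4 : act d (act a v) = act a v - v + act d v := by rw [← h2]; abel
  rw [h3, h4]; abel

theorem AA_le_normalizer (D : Subgroup SL) : AA D ≤ Subgroup.normalizer (D : Set SL) := by
  intro a ha
  rw [Subgroup.mem_normalizer_iff]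
  intro d
  constructor
  · intro hd
    rw [commute_AA ha hd, mul_inv_cancel_right]; exact hd
  · intro hd
    have h := commute_AA (inv_mem ha) hd
    have h2 : a⁻¹ * (a * d * a⁻¹) * a = d := by group
    rw [h, inv_mul_cancel_right] at h2
    rw [← h2]; exact hd

theorem conj_mem_AA {D : Subgroup SL} {g a : SL} (hg : g ∈ Subgroup.normalizer (D : Set SL)) (ha : a ∈ AA D) :
    g * a * g⁻¹ ∈ AA D := by
  have h1 : ∀ d ∈ D, g * d * g⁻¹ ∈ D := fun d hd => (Subgroup.mem_normalizer_iff.1 hg d).1 hd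
  have h2 : ∀ d ∈ D, g⁻¹ * d * g ∈ D := fun d hd => by
    have := (Subgroup.mem_normalizer_iff.1 (inv_mem hg) d).1 hd
    rwa [inv_inv] at this
  have h1' : ∀ d ∈ D, g⁻¹⁻¹ * d * g⁻¹ ∈ D := by simpa using h1
  have h2' : ∀ d ∈ D, g⁻¹ * d * g⁻¹⁻¹ ∈ D := by simpa using h2
  refine ⟨fun v => ?_, fun v hv => ?_⟩
  · have : act (g * a * g⁻¹) v - v = act g (act a (act g⁻¹ v) - act g⁻¹ v) := by
      rw [act_sub, act_mul, act_mul, act_act_inv]
    rw [this]
    have h := ha.1 (act g⁻¹ v)
    exact ⟨act_mem_fix h2 h.1, act_mem_com h1 h.2⟩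
  · rw [act_mul, act_mul, ha.2 _ (act_mem_com h2' hv), act_act_inv]

/-- The element `1 + w f^T`. -/
theorem exists_transvection {D : Subgroup SL} {w f : Fin n → F} (hw : w ∈ W1 D) (hf : ∀ v ∈ com D, f ⬝ᵥ v = 0) :
    ∃ a ∈ AA D, ∀ v, act a v = v + (f ⬝ᵥ v) • w := by
  have hdet : (1 + Matrix.vecMulVec w f).det = 1 := by
    rw [Matrix.vecMulVec_eq (Fin 1), Matrix.det_one_add_replicateCol_mul_replicateRow, hf w hw.2, add_zero]
  have hact : ∀ v, act (⟨1 + Matrix.vecMulVec w f, hdet⟩ : SL) v = v + (f ⬝ᵥ v) • w := by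
    intro v
    show (1 + Matrix.vecMulVec w f) *ᵥ v = _
    rw [Matrix.add_mulVec, Matrix.one_mulVec, Matrix.vecMulVec_mulVec]
    congr 1
    ext i
    simp [mul_comm]
  refine ⟨⟨1 + Matrix.vecMulVec w f, hdet⟩, ⟨fun v => ?_, fun v hv => ?_⟩, hact⟩
  · rw [hact, add_sub_cancel_left]
    exact Submodule.smul_mem _ _ hw
  · rw [hact, hf v hv, zero_smul, add_zero]


/-- **Key lemma.** An element of order prime to `p` which commutes with the radical `p`-subgroup `D ≠ 1` is
scalar. -/
theorem exists_scalar [Finite F] (p : ℕ) [hp : Fact p.Prime] [CharP F p] (D : Subgroup SL) (hD : IsPGroup p D)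
    (hne : D ≠ ⊥)
    (hrad : ∀ A : Subgroup SL, IsPGroup p A → A ≤ Subgroup.normalizer (D : Set SL) →
      (∀ g ∈ Subgroup.normalizer (D : Set SL), ∀ a ∈ A, g * a * g⁻¹ ∈ A) → A ≤ D)
    (x : SL) (hx : ∀ d ∈ D, x * d = d * x) (hxo : ¬ p ∣ orderOf x) : ∃ c : F, ∀ v, act x v = c • v := by
  have hAD : AA D ≤ D := hrad _ (isPGroup_AA p D) (AA_le_normalizer D) (fun g hg a ha => conj_mem_AA hg ha)
  have hxinj : ∀ v, act x v = 0 → v = 0 := fun v hv => by
    rw [← act_inv_act x v, hv, act_zero]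
  -- the commutator space is nonzero
  have hcom : com D ≠ ⊥ := by
    intro h
    apply hne
    rw [Subgroup.eq_bot_iff_forall]
    intro d hd
    apply ext_act
    intro v
    have := sub_mem_com hd v
    rw [h, Submodule.mem_bot, sub_eq_zero] at this
    rw [this, act_one]
  -- nonzero fixed vectors in invariant subspaces
  have hfix : ∀ W : Submodule F (Fin n → F), (∀ d ∈ D, ∀ v ∈ W, act d v ∈ W) → W ≠ ⊥ →
      ∃ v ∈ W, v ≠ 0 ∧ v ∈ fix D := by
    intro W hW hW0
    obtain ⟨v, hv, hv0, hfx⟩ := Lib.PGroupFixedVector.exists_mem_ne_zero_fixed_rep hD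
      ((rep F n).comp D.subtype) W (fun g v hv => hW g g.2 v hv) hW0
    exact ⟨v, hv, hv0, fun d hd => hfx ⟨d, hd⟩⟩
  -- a nonzero functional killing `com D`
  obtain ⟨f₀, hf₀, hf₀D⟩ : ∃ f : Fin n → F, f ≠ 0 ∧ ∀ v ∈ com D, f ⬝ᵥ v = 0 := by
    have hV : Nontrivial (Fin n → F) := by
      obtain ⟨v, _, hv⟩ := Submodule.exists_mem_ne_zero_of_ne_bot hcom
      exact ⟨v, 0, hv⟩
    obtain ⟨f, hf0, hf⟩ := Lib.PGroupFixedVector.exists_ne_zero_fixed_rep hD
      ((dualRep F n).comp D.subtype)
    refine ⟨f, hf0, fun v hv => ?_⟩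
    refine Submodule.span_induction (p := fun v _ => f ⬝ᵥ v = 0) ?_ ?_ ?_ ?_ hv
    · rintro _ ⟨d, hd, w, rfl⟩
      have h := hf ⟨d⁻¹, inv_mem hd⟩
      have h2 : dualRep F n d⁻¹ f = f := h
      have h3 := dot_dualRep d⁻¹ f w
      rw [h2, inv_inv] at h3
      rw [dotProduct_sub, h3, sub_self]
    · simp
    · intro a b _ _ ha hb
      rw [dotProduct_add, ha, hb, add_zero]
    · intro c a _ ha
      rw [dotProduct_smul, ha, smul_zero]
  -- the basic identity
  have hid : ∀ w ∈ W1 D, ∀ f : Fin n → F, (∀ v ∈ com D, f ⬝ᵥ v = 0) → ∀ v,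
      (f ⬝ᵥ v) • act x w = (f ⬝ᵥ act x v) • w := by
    intro w hw f hf v
    obtain ⟨a, ha, hav⟩ := exists_transvection hw hf
    have h := congrArg (fun g => act g v) (hx a (hAD ha))
    simp only [act_mul] at h
    rw [hav, hav, act_add, act_smul] at h
    exact add_left_cancel h
  have hcominv : ∀ d ∈ D, ∀ v ∈ com D, act d v ∈ com D := fun d hd v hv =>
    act_mem_com (fun d' hd' => mul_mem (mul_mem hd hd') (inv_mem hd)) hv
  obtain ⟨w₀, hw₀, hw₀0, hw₀f⟩ := hfix (com D) hcominv hcom
  have hw₀W : w₀ ∈ W1 D := ⟨hw₀f, hw₀⟩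
  obtain ⟨v₀, hv₀⟩ : ∃ v, f₀ ⬝ᵥ v ≠ 0 := by
    by_contra hcon
    push Not at hcon
    exact hf₀ (dotProduct_eq_zero_iff.1 hcon)
  set c : F := (f₀ ⬝ᵥ v₀)⁻¹ * (f₀ ⬝ᵥ act x v₀) with hc
  have hxw : ∀ w ∈ W1 D, act x w = c • w := by
    intro w hw
    have h := hid w hw f₀ hf₀D v₀
    rw [hc, mul_smul, ← h, smul_smul, inv_mul_cancel₀ hv₀, one_smul]
  have hxf : ∀ f : Fin n → F, (∀ v ∈ com D, f ⬝ᵥ v = 0) → ∀ v, f ⬝ᵥ act x v = c * (f ⬝ᵥ v) := by
    intro f hf v
    have h := hid w₀ hw₀W f hf v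
    rw [hxw w₀ hw₀W, smul_smul] at h
    have h2 : ((f ⬝ᵥ v) * c - f ⬝ᵥ act x v) • w₀ = 0 := by rw [sub_smul, h, sub_self]
    rcases smul_eq_zero.1 h2 with h3 | h3
    · rw [← sub_eq_zero.1 h3, mul_comm]
    · exact absurd h3 hw₀0
  have hc0 : c ≠ 0 := by
    intro h
    have := hxw w₀ hw₀W
    rw [h, zero_smul] at this
    exact hw₀0 (hxinj _ this)
  refine ⟨c, ?_⟩
  -- `y = x - c`
  let y : (Fin n → F) → (Fin n → F) := fun v => act x v - c • v
  have hy : ∀ v, y v = act x v - c • v := fun v => rfl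
  have hyadd : ∀ v w, y (v + w) = y v + y w := fun v w => by
    simp only [hy, act_add, smul_add]; abel
  have hysmul : ∀ (a : F) v, y (a • v) = a • y v := fun a v => by
    simp only [hy, act_smul, smul_sub, smul_comm a c v]
  have hyD : ∀ d ∈ D, ∀ v, y (act d v) = act d (y v) := fun d hd v => by
    simp only [hy, act_sub, act_smul]
    rw [← act_mul, hx d hd, act_mul]
  -- semisimplicity
  have hss : ∀ v, y (y v) = 0 → y v = 0 := by
    intro v hv
    set u := y v with hu
    have hxu : act x u = c • u := by rw [hy] at hv; exact sub_eq_zero.1 hv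
    have hxv : act x v = c • v + u := by rw [hu, hy]; abel
    have hpow : ∀ k : ℕ, act (x ^ (k + 1)) v = c ^ (k + 1) • v + ((k + 1 : ℕ) * c ^ k : F) • u := by
      intro k
      induction k with
      | zero => simp [hxv]
      | succ k ih =>
        rw [pow_succ', act_mul, ih, act_add, act_smul, act_smul, hxu, hxv, smul_add, smul_smul, smul_smul,
          pow_succ c (k + 1), add_assoc, ← add_smul]
        congr 2
        push_cast
        ring
    have hpowu : ∀ k : ℕ, act (x ^ k) u = c ^ k • u := by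
      intro k
      induction k with
      | zero => simp [act_one]
      | succ k ih => rw [pow_succ', act_mul, ih, act_smul, hxu, smul_smul, pow_succ]
    by_contra hu0
    obtain ⟨m, hm⟩ : ∃ m, orderOf x = m + 1 := by
      refine ⟨orderOf x - 1, ?_⟩
      have := orderOf_pos x
      omega
    have h1 : x ^ (m + 1) = 1 := by rw [← hm, pow_orderOf_eq_one]
    have h2 := hpowu (m + 1)
    rw [h1, act_one] at h2
    have h3 : c ^ (m + 1) = 1 := by
      have h4 : (c ^ (m + 1) - 1) • u = 0 := by rw [sub_smul, ← h2, one_smul, sub_self]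
      rcases smul_eq_zero.1 h4 with h5 | h5
      · exact sub_eq_zero.1 h5
      · exact absurd h5 hu0
    have h4 := hpow m
    rw [h1, act_one, h3, one_smul] at h4
    have h5 : (((m + 1 : ℕ) : F) * c ^ m) • u = 0 := by
      have := h4.symm
      rwa [add_eq_left] at this
    rcases smul_eq_zero.1 h5 with h6 | h6
    · rcases mul_eq_zero.1 h6 with h7 | h7
      · rw [CharP.cast_eq_zero_iff F p, ← hm] at h7
        exact hxo h7
      · exact hc0 (eq_zero_of_pow_eq_zero h7)
    · exact hu0 h6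
  -- `V'' = im y`
  let V2 : Submodule F (Fin n → F) :=
    { carrier := {u | ∃ v, u = y v}
      add_mem' := by
        rintro _ _ ⟨v, rfl⟩ ⟨w, rfl⟩
        exact ⟨v + w, (hyadd v w).symm⟩
      zero_mem' := ⟨0, by simp [hy, act_zero]⟩
      smul_mem' := by
        rintro a _ ⟨v, rfl⟩
        exact ⟨a • v, (hysmul a v).symm⟩ }
  have hV2 : ∀ u, u ∈ V2 ↔ ∃ v, u = y v := fun u => Iff.rfl
  have hker : ∀ u ∈ V2, y u = 0 → u = 0 := by
    rintro _ ⟨v, rfl⟩ h
    exact hss v h
  -- `D` acts trivially on `V2`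
  have htriv : ∀ d ∈ D, ∀ u ∈ V2, act d u = u := by
    by_contra hcon
    push Not at hcon
    obtain ⟨d₁, hd₁, u₁, hu₁, hdu⟩ := hcon
    let C2 : Submodule F (Fin n → F) := Submodule.span F {w | ∃ d ∈ D, ∃ v ∈ V2, w = act d v - v}
    have hC2 : C2 ≠ ⊥ := by
      intro h
      have h2 : act d₁ u₁ - u₁ ∈ C2 := Submodule.subset_span ⟨d₁, hd₁, u₁, hu₁, rfl⟩
      rw [h, Submodule.mem_bot, sub_eq_zero] at h2
      exact hdu h2
    have hVD : ∀ d ∈ D, ∀ v ∈ V2, act d v ∈ V2 := by
      rintro d hd _ ⟨v, rfl⟩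
      exact ⟨act d v, (hyD d hd v).symm⟩
    have hinv : ∀ d ∈ D, ∀ v ∈ C2, act d v ∈ C2 := by
      intro d hd v hv
      refine Submodule.span_induction (p := fun v _ => act d v ∈ C2) ?_ ?_ ?_ ?_ hv
      · rintro _ ⟨e, he, w, hw, rfl⟩
        have : act d (act e w - w) = act (d * e * d⁻¹) (act d w) - act d w := by
          rw [act_sub, act_mul, act_mul, act_inv_act]
        rw [this]
        exact Submodule.subset_span ⟨_, mul_mem (mul_mem hd he) (inv_mem hd), _, hVD d hd w hw, rfl⟩
      · rw [act_zero]; exact zero_mem _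
      · intro a b _ _ ha hb
        rw [act_add]; exact add_mem ha hb
      · intro a b _ hb
        rw [act_smul]; exact Submodule.smul_mem _ _ hb
    obtain ⟨u, hu, hu0, huf⟩ := hfix C2 hinv hC2
    have hC2V : C2 ≤ V2 := by
      rw [Submodule.span_le]
      rintro _ ⟨d, hd, v, hv, rfl⟩
      exact sub_mem (hVD d hd v hv) hv
    have hC2c : C2 ≤ com D := by
      apply Submodule.span_mono
      rintro _ ⟨d, hd, v, _, rfl⟩
      exact ⟨d, hd, v, rfl⟩
    have h1 := hxw u ⟨huf, hC2c hu⟩
    exact hu0 (hker u (hC2V hu) (by rw [hy, h1, sub_self]))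
  -- conclusion
  intro v
  have hmain : ∀ v, y (y v) = 0 := by
    intro v
    by_contra hyy
    obtain ⟨g, hg⟩ : ∃ g : Fin n → F, g ⬝ᵥ y (y v) ≠ 0 := by
      by_contra hcon
      push Not at hcon
      apply hyy
      apply dotProduct_eq_zero_iff.1
      intro w
      rw [dotProduct_comm]
      exact hcon w
    -- the functional `g ∘ y`
    let f : Fin n → F := fun j => g ⬝ᵥ y (Pi.single j 1)
    have hylin : ∀ w, g ⬝ᵥ y w = f ⬝ᵥ w := by
      intro w
      let L : (Fin n → F) →ₗ[F] F :=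
        { toFun := fun w => g ⬝ᵥ y w
          map_add' := fun a b => by rw [hyadd, dotProduct_add]
          map_smul' := fun a b => by rw [hysmul, dotProduct_smul]; rfl }
      have h1 : L = (LinearMap.mk₂ F (fun a b : Fin n → F => a ⬝ᵥ b) (by intros; rw [add_dotProduct])
        (by intros; rw [smul_dotProduct]) (by intros; rw [dotProduct_add]) (by intros; rw [dotProduct_smul]) f) := by
        apply LinearMap.pi_ext'
        intro i
        ext
        simp [L, f]
      exact LinearMap.congr_fun h1 w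
    have hfc : ∀ w ∈ com D, f ⬝ᵥ w = 0 := by
      intro w hw
      refine Submodule.span_induction (p := fun w _ => f ⬝ᵥ w = 0) ?_ ?_ ?_ ?_ hw
      · rintro _ ⟨d, hd, u, rfl⟩
        rw [← hylin]
        have : y (act d u - u) = 0 := by
          have h1 : y (act d u) = act d (y u) := hyD d hd u
          have h2 : act d (y u) = y u := htriv d hd (y u) ⟨u, rfl⟩
          have h3 : y (act d u - u) = y (act d u) - y u := by
            simp only [hy, act_sub, smul_sub]; abel
          rw [h3, h1, h2, sub_self]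
        rw [this, dotProduct_zero]
      · simp
      · intro a b _ _ ha hb
        rw [dotProduct_add, ha, hb, add_zero]
      · intro c a _ ha
        rw [dotProduct_smul, ha, smul_zero]
    have h1 := hxf f hfc v
    apply hg
    rw [hylin, hy v, dotProduct_sub, dotProduct_smul, h1, smul_eq_mul, sub_self]
  have := hss v (hmain v)
  rw [hy, sub_eq_zero] at this
  exact this

theorem mem_center_of_commute [Finite F] (p : ℕ) [hp : Fact p.Prime] [CharP F p] (D : Subgroup SL)
    (hD : IsPGroup p D) (hne : D ≠ ⊥)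
    (hrad : ∀ A : Subgroup SL, IsPGroup p A → A ≤ Subgroup.normalizer (D : Set SL) →
      (∀ g ∈ Subgroup.normalizer (D : Set SL), ∀ a ∈ A, g * a * g⁻¹ ∈ A) → A ≤ D)
    (x : SL) (hx : ∀ d ∈ D, x * d = d * x) (hxo : ¬ p ∣ orderOf x) : x ∈ Subgroup.center SL := by
  obtain ⟨c, hc⟩ := exists_scalar p D hD hne hrad x hx hxo
  rw [Subgroup.mem_center_iff]
  intro g
  apply ext_act
  intro v
  rw [act_mul, act_mul, hc, hc, act_smul]

end Cfsg.Agent.H615.SLRad
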