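import Cfsg.Agent.H615.SLBru
import Cfsg.Agent.H615.DefZeroChar
import Cfsg.Agent.Blocks.CliffordCentral
import Cfsg.Agent.S2544

/-!
# The Steinberg character of `SL_n(F)` and the uniqueness of the character of defect zero
-/

set_option autoImplicit false

namespace Cfsg.Agent.H615.SLSteinberg

open Cfsg Matrix

variable {F : Type*} [Field F] [Fintype F] {n : ℕ}

/-- The centre of `SL_n(F)` has order prime to `p`. -/
theorem not_dvd_card_center (hn : 2 ≤ n) (p : ℕ) [hp : Fact p.Prime] [CharP F p] :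
    ¬ p ∣ Nat.card (Subgroup.center (Matrix.SpecialLinearGroup (Fin n) F)) := by
  intro h
  obtain ⟨⟨z, hz⟩, hzo⟩ := exists_prime_orderOf_dvd_card' p h
  rw [Subgroup.orderOf_mk] at hzo
  obtain ⟨r, -, hr⟩ := Matrix.SpecialLinearGroup.mem_center_iff.1 hz
  have h1 : z ^ p = 1 := by rw [← hzo]; exact pow_orderOf_eq_one z
  have h2 : r ^ p = 1 := by
    have h3 := congrArg (fun g : Matrix.SpecialLinearGroup (Fin n) F =>
      (g : Matrix (Fin n) (Fin n) F) ⟨0, by omega⟩ ⟨0, by omega⟩) h1
    simp only [Matrix.SpecialLinearGroup.coe_pow, Matrix.SpecialLinearGroup.coe_one, ← hr] at h3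
    rw [← map_pow, Matrix.scalar_apply, Matrix.diagonal_apply_eq, Matrix.one_apply_eq] at h3
    exact h3
  have h3 : r = 1 := by
    have h4 : r ^ p = 1 ^ p := by rw [h2, one_pow]
    exact frobenius_inj F p h4
  have h4 : z = 1 := by
    apply Subtype.ext
    rw [← hr, h3, map_one, Matrix.SpecialLinearGroup.coe_one]
  rw [h4, orderOf_one] at hzo
  exact hp.1.one_lt.ne hzo

/-- `SL_n(F)` has an irreducible character of defect zero, trivial on the centre, of degree the order of a Sylow
`p`-subgroup, which vanishes on the `p`-elements different from `1`. -/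
theorem exists_steinberg (hn : 2 ≤ n) (p : ℕ) [hp : Fact p.Prime] [CharP F p] :
    ∃ χ : IrrCharacter (Matrix.SpecialLinearGroup (Fin n) F),
      (χ : Matrix.SpecialLinearGroup (Fin n) F → ℂ) 1 =
        (p ^ (Nat.card (Matrix.SpecialLinearGroup (Fin n) F)).factorization p : ℕ) ∧
      ¬ p ∣ Nat.card (Matrix.SpecialLinearGroup (Fin n) F) /
        charDegree (χ : Matrix.SpecialLinearGroup (Fin n) F → ℂ) ∧
      (∀ z ∈ Subgroup.center (Matrix.SpecialLinearGroup (Fin n) F), ∀ g,
        (χ : Matrix.SpecialLinearGroup (Fin n) F → ℂ) (z * g) = (χ : Matrix.SpecialLinearGroup (Fin n) F → ℂ) g) := by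
  classical
  have : Finite (Matrix.ProjectiveSpecialLinearGroup (Fin n) F) :=
    Finite.of_surjective _ (QuotientGroup.mk'_surjective _)
  obtain ⟨χ, hχ, hχP⟩ := Cfsg.Agent.S2544.result (F := F) p n hn
  obtain ⟨P⟩ : Nonempty (Sylow p (Matrix.ProjectiveSpecialLinearGroup (Fin n) F)) := inferInstance
  obtain ⟨h1, -⟩ := hχP P
  have hirr := Blocks.CliffordCentral.isIrrCharacter_comp hχ
    (QuotientGroup.mk' (Subgroup.center (Matrix.SpecialLinearGroup (Fin n) F))) (QuotientGroup.mk'_surjective _)
  have hcard : Nat.card (Matrix.SpecialLinearGroup (Fin n) F) =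
      Nat.card (Matrix.ProjectiveSpecialLinearGroup (Fin n) F) *
        Nat.card (Subgroup.center (Matrix.SpecialLinearGroup (Fin n) F)) :=
    Subgroup.card_eq_card_quotient_mul_card_subgroup _
  have hZ := not_dvd_card_center (F := F) hn p
  have hfac : (Nat.card (Matrix.SpecialLinearGroup (Fin n) F)).factorization p =
      (Nat.card (Matrix.ProjectiveSpecialLinearGroup (Fin n) F)).factorization p := by
    rw [hcard, Nat.factorization_mul Nat.card_pos.ne' Nat.card_pos.ne', Finsupp.add_apply,
      Nat.factorization_eq_zero_of_not_dvd hZ, add_zero]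
  have hP : Nat.card P = p ^ (Nat.card (Matrix.SpecialLinearGroup (Fin n) F)).factorization p := by
    rw [hfac]; exact P.card_eq_multiplicity
  have hdeg : χ (QuotientGroup.mk' (Subgroup.center (Matrix.SpecialLinearGroup (Fin n) F)) 1) =
      (p ^ (Nat.card (Matrix.SpecialLinearGroup (Fin n) F)).factorization p : ℕ) := by
    rw [map_one, h1, hP]
  refine ⟨⟨_, hirr⟩, hdeg, ?_, ?_⟩
  · have h2 : charDegree (fun g => χ (QuotientGroup.mk' (Subgroup.center (Matrix.SpecialLinearGroup (Fin n) F)) g)) =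
        p ^ (Nat.card (Matrix.SpecialLinearGroup (Fin n) F)).factorization p :=
      Blocks.Basic.charDegree_of_eq hdeg
    rw [h2]
    exact Nat.not_dvd_ordCompl hp.1 Nat.card_pos.ne'
  · intro z hz g
    show χ (QuotientGroup.mk' _ (z * g)) = χ (QuotientGroup.mk' _ g)
    rw [map_mul]
    have : QuotientGroup.mk' (Subgroup.center (Matrix.SpecialLinearGroup (Fin n) F)) z = 1 :=
      (QuotientGroup.eq_one_iff z).2 hz
    rw [this, one_mul]

/-- `SL_n(F)` has at most one irreducible character of defect zero. -/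
theorem defect_zero_unique (p : ℕ) [Fact p.Prime] [CharP F p] (M : Ideal AlgInt) (hM : IsPModular p M)
    (χ χ' : IrrCharacter (Matrix.SpecialLinearGroup (Fin n) F))
    (hχ : ¬ p ∣ Nat.card (Matrix.SpecialLinearGroup (Fin n) F) /
      charDegree (χ : Matrix.SpecialLinearGroup (Fin n) F → ℂ))
    (hχ' : ¬ p ∣ Nat.card (Matrix.SpecialLinearGroup (Fin n) F) /
      charDegree (χ' : Matrix.SpecialLinearGroup (Fin n) F → ℂ)) : χ = χ' := by
  have := Fintype.ofFinite (Matrix.SpecialLinearGroup (Fin n) F)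
  exact DefZeroChar.defect_zero_unique hM (SLBru.data F n p) (SLBru.root F n p) (SLBru.T_le p) χ χ' hχ hχ'

end Cfsg.Agent.H615.SLSteinberg
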